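import Cfsg.Agent.Lib.SmallGroups.Omega8Three.Code

/-!
Class representatives and auxiliary data for the elements of order three.
-/

set_option autoImplicit false

namespace CfsgLib.SmallGroups.Omega8Three

/-- Representatives of the classes of subgroups of order three. -/
def repData : List (List ℕ) :=
  [[244,165,9,27,81,243,729,2187],
   [331,165,9,27,81,324,729,2187],
   [409,165,9,27,81,405,729,2187],
   [13,12,9,27,81,405,1215,2187],
   [409,165,3681,1485,81,405,729,3645],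
   [244,165,2196,1485,81,243,729,2187],
   [244,165,4383,756,81,243,729,2187],
   [244,165,36,27,81,243,729,3645],
   [244,165,63,27,81,243,729,2916],
   [2377,732,495,189,81,243,729,2349],
   [2377,1461,252,189,81,243,729,2349],
   [4483,732,495,108,81,243,729,2349],
   [4483,1461,252,108,81,243,729,2349]]

/-- Root elements. -/
def letterData : List (List ℕ) :=
  [[4,3,9,27,81,405,729,2187],
   [244,165,9,27,81,243,729,2187],
   [10,3,9,27,81,243,891,2187],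
   [730,3,171,27,81,243,729,2187],
   [28,3,9,27,81,243,729,2349],
   [2188,3,9,189,81,243,729,2187],
   [1,12,9,27,81,243,1215,2187],
   [1,732,495,27,81,243,729,2187],
   [1,30,9,27,81,243,729,2673],
   [1,2190,9,513,81,243,729,2187],
   [1,3,36,27,81,243,729,3645],
   [1,3,2196,1485,81,243,729,2187],
   [1,4,9,27,567,243,729,2187],
   [1,3,9,27,84,245,729,2187],
   [1,3,10,27,1539,243,729,2187],
   [1,3,9,27,90,243,731,2187],
   [1,3,9,28,4455,243,729,2187],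
   [1,3,9,27,108,243,729,2189],
   [1,3,12,27,81,1701,729,2187],
   [1,3,9,27,81,252,735,2187],
   [1,3,9,30,81,4617,729,2187],
   [1,3,9,27,81,270,729,2193],
   [1,3,9,36,81,243,5103,2187],
   [1,3,9,27,81,243,756,2205]]

/-- Target, squaring flag and conjugating word. -/
def tTwist : List (ℕ × List ℕ) :=
  [(0,[2,2,14,2,2,2,2,14,2,2]),
   (1,[2,2,14,2,2,2,2,14,2,2]),
   (2,[2,2,14,2,2,2,2,14,2,2]),
   (3,[4,4,16,4,4,4,4,16,4,4]),
   (4,[8,8,9,9,0,0,12,0,0,0,0,12,0,0,9,9,21,9,9,8,8,20,8,8,8,8]),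
   (6,[2,2,14,2,2,2,2,14,2,2]),
   (5,[2,2,14,2,2,2,2,14,2,2]),
   (8,[2,2,14,2,2,2,2,14,2,2]),
   (7,[2,2,14,2,2,2,2,14,2,2]),
   (10,[0,0,12,0,0,0,0,12,0,0]),
   (9,[0,0,12,0,0,0,0,12,0,0]),
   (12,[0,0,12,0,0,0,0,12,0,0]),
   (11,[0,0,12,0,0,0,0,12,0,0])]

/-- Target, squaring flag and conjugating word. -/
def rTwist : List (ℕ × List ℕ) :=
  [(0,[]),
   (1,[]),
   (2,[]),
   (3,[]),
   (4,[]),
   (7,[]),
   (8,[]),
   (5,[]),
   (6,[]),
   (9,[]),
   (10,[]),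
   (12,[0,0,12,0,0,0,0,12,0,0]),
   (11,[0,0,12,0,0,0,0,12,0,0])]

/-- Target, squaring flag and conjugating word. -/
def dTwist : List (ℕ × List ℕ) :=
  [(0,[2,2,14,2,2,2,2,14,2,2]),
   (2,[2,2,14,2,2,2,2,14,2,2]),
   (1,[2,2,14,2,2,2,2,14,2,2]),
   (3,[]),
   (4,[2,2,8,8,0,0,12,0,0,0,0,12,0,0,8,8,20,8,8,2,2,14,2,2,2,2,8,8]),
   (5,[2,2,14,2,2,2,2,14,2,2]),
   (6,[2,2,14,2,2,2,2,14,2,2]),
   (8,[2,2,14,2,2,2,2,14,2,2]),
   (7,[2,2,14,2,2,2,2,14,2,2]),
   (12,[]),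
   (11,[]),
   (10,[]),
   (9,[])]

end CfsgLib.SmallGroups.Omega8Three
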