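import Cfsg.Agent.Lib.SmallGroups.Omega8Three.Param
import Cfsg.Agent.Lib.SmallGroups.Omega8Three.Data

/-!
The checker for conjugacy certificates of elements of order three in the Sylow subgroup.
-/

set_option autoImplicit false

namespace CfsgLib.SmallGroups.Omega8Three

open Matrix

/-- The representative matrices. -/
def repMat (k : Fin 13) : M8 := matOf (repData.getD k.val [])

/-- The targets: the representatives and their squares. -/
def tgtMat (k : Fin 26) : M8 :=
  if h : k.val < 13 then repMat ⟨k.val, h⟩ else repMat ⟨k.val - 13, by omega⟩ * repMat ⟨k.val - 13, by omega⟩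

/-- A matrix conjugate to a representative or to its square in the orthogonal group. -/
def Covered (M : M8) : Prop := ∃ k : Fin 26, ∃ g : O8, val8 g * M = tgtMat k * val8 g

/-- The packed targets. -/
def tgtC : List (List ℕ) :=
  repData.map codeOf ++ repData.map fun r => mulC (codeOf r) (codeOf r)

/-- The check at one element. -/
def checkOne (Gc : List ℕ) (X : List ℕ) : Option (ℕ × List ℕ) → Bool
  | none => (X == oneC) || oneC.any (fun e => red (rowMul (red (rowMul (red (rowMul e X)) X)) X) != e)
  | some c =>
    let g := codeOf c.2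
    decide (c.1 < 26) && (mulC (mulC (trC 8 g) Gc) g == Gc) && (mulC g X == mulC (tgtC.getD c.1 []) g)

theorem fixed_of_mulC_cube {A X : List ℕ} (h : mulC (mulC (mulC A X) X) X = A) :
    ∀ e ∈ A, red (rowMul (red (rowMul (red (rowMul e X)) X)) X) = e := by
  induction A with
  | nil => intro e he; exact absurd he List.not_mem_nil
  | cons a A ih =>
    simp only [mulC, List.map_cons, List.cons.injEq] at h ih
    intro e he
    rcases List.mem_cons.1 he with rfl | he
    · exact h.1
    · exact ih h.2 e he

theorem rows_tgtMat (k : Fin 26) : rows (tgtMat k) = tgtC.getD k.val [] := by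
  have hl : repData.length = 13 := rfl
  unfold tgtMat tgtC
  rw [List.getD_eq_getElem?_getD]
  by_cases h : k.val < 13
  · rw [dif_pos h, repMat, rows_matOf, List.getElem?_append_left (by simp [hl, h]), List.getElem?_map,
      List.getD_eq_getElem?_getD, List.getElem?_eq_getElem (by rw [hl]; exact h)]
    rfl
  · rw [dif_neg h, repMat, rows_mul, rows_matOf, List.getElem?_append_right (by simp [hl]; omega),
      List.length_map, hl, List.getElem?_map, List.getD_eq_getElem?_getD,
      List.getElem?_eq_getElem (by rw [hl]; omega)]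
    rfl

theorem covered_of_checkOne {M : M8} {c : Option (ℕ × List ℕ)}
    (h : checkOne (rows G8) (rows M) c = true) (h3 : M ^ 3 = 1) : M = 1 ∨ Covered M := by
  cases c with
  | none =>
    simp only [checkOne, Bool.or_eq_true, beq_iff_eq, List.any_eq_true, bne_iff_ne] at h
    rcases h with h | ⟨e, he, hne⟩
    · exact Or.inl (rows_injective (h.trans rows_one.symm))
    · have hc : rows (1 * M * M * M) = rows 1 := by rw [one_mul, ← pow_two, ← pow_succ, h3]
      rw [rows_mul, rows_mul, rows_mul, rows_one] at hc
      exact absurd (fixed_of_mulC_cube hc e he) hne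
  | some c =>
    obtain ⟨k, l⟩ := c
    simp only [checkOne, Bool.and_eq_true, decide_eq_true_eq, beq_iff_eq] at h
    obtain ⟨⟨hk, hG⟩, hx⟩ := h
    obtain ⟨g, hg⟩ := exists_of_gram (M := matOf l) (rows_injective (by
      rw [rows_mul, rows_mul, rows_transpose, rows_matOf, hG]))
    refine Or.inr ⟨⟨k, hk⟩, g, rows_injective ?_⟩
    rw [rows_mul, rows_mul, hg, rows_matOf, rows_tgtMat, hx]

/-- All pairs in two lists of equal length satisfy a test. -/
def all2 {α β : Type} (f : α → β → Bool) : List α → List β → Bool
  | [], [] => true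
  | a :: as, b :: bs => f a b && all2 f as bs
  | _, _ => false

theorem exists_of_all2 {α β : Type} {f : α → β → Bool} : ∀ {as : List α} {bs : List β},
    all2 f as bs = true → ∀ a ∈ as, ∃ b, f a b = true
  | [], _, _, a, ha => absurd ha (List.not_mem_nil)
  | _ :: _, [], h, _, _ => absurd h (by simp [all2])
  | a :: as, b :: bs, h, x, hx => by
    simp only [all2, Bool.and_eq_true] at h
    rcases List.mem_cons.1 hx with rfl | hx
    · exact ⟨b, h.1⟩
    · exact exists_of_all2 h.2 x hx

/-- All sextuples, the first entry most significant. -/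
def sixes : List T6 :=
  [0, 1, 2].flatMap fun a => [0, 1, 2].flatMap fun b => [0, 1, 2].flatMap fun c =>
    [0, 1, 2].flatMap fun d => [0, 1, 2].flatMap fun e => [0, 1, 2].map fun f => ![a, b, c, d, e, f]

theorem mem_sixes (t : T6) : t ∈ sixes := by
  have ht : t = ![t 0, t 1, t 2, t 3, t 4, t 5] := by
    ext i; fin_cases i <;> rfl
  have h : ∀ x : ZMod 3, x ∈ ([0, 1, 2] : List (ZMod 3)) := by decide
  rw [ht]
  simp only [sixes, List.mem_flatMap, List.mem_map]
  exact ⟨_, h _, _, h _, _, h _, _, h _, _, h _, _, h _, rfl⟩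

/-- The representatives of the Levi factors. -/
def leviRep : Fin 4 → T6 := ![![0, 0, 0, 0, 0, 0], ![1, 0, 0, 0, 0, 0], ![1, 0, 0, 0, 0, 1], ![1, 0, 0, 1, 0, 0]]

/-- The check of the elements with a given Levi factor. -/
def checkLevi (b : Fin 4) (tbl : List (Option (ℕ × List ℕ))) : Bool :=
  let Gc := rows G8
  let Ac := rows (aMat (leviRep b))
  all2 (fun s c => checkOne Gc (mulC Ac (rows (nMat s))) c) sixes tbl

theorem covered_of_checkLevi {b : Fin 4} {tbl : List (Option (ℕ × List ℕ))}
    (h : checkLevi b tbl = true) (s : T6) (h3 : (aMat (leviRep b) * nMat s) ^ 3 = 1) :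
    aMat (leviRep b) * nMat s = 1 ∨ Covered (aMat (leviRep b) * nMat s) := by
  obtain ⟨c, hc⟩ := exists_of_all2 h s (mem_sixes s)
  rw [← rows_mul] at hc
  exact covered_of_checkOne hc h3

end CfsgLib.SmallGroups.Omega8Three
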