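import Cfsg.Agent.Lib.SmallGroups.Omega8Three.Cert

/-!
Conjugacy certificates for the Levi factor (1, 0, 0, 0, 0, 1).
-/

set_option autoImplicit false

namespace CfsgLib.SmallGroups.Omega8Three

def certTable2Row0 : List (Option (ℕ × List ℕ)) :=
  [some (5,[1,270,9,2193,81,3,729,27]),
   some (9,[11,1,270,2193,729,810,3,27]),
   some (12,[20,1,540,2193,1458,1539,6,27]),
   none,
   none,
   none,
   none,
   none,
   none,
   some (3,[1,3,729,2190,81,297,2199,1485]),
   some (3,[317,4677,891,222,1458,1623,4895,4380]),
   some (3,[2482,2487,1620,57,1458,165,4919,4542]),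
   none,
   none,
   none,
   none,
   none,
   none,
   some (3,[1,3,1458,4377,81,270,2211,1512]),
   some (3,[559,4917,810,138,1458,1545,4648,4377]),
   some (3,[2723,2733,1539,60,1458,87,4678,4458]),
   none,
   none,
   none,
   none,
   none,
   none]

def certTable2Row1 : List (Option (ℕ × List ℕ)) :=
  [some (3,[9,27,162,513,729,2190,515,87]),
   some (3,[11,33,1620,4893,729,2190,4895,816]),
   some (3,[4687,30,891,2703,729,2190,2705,87]),
   none,
   none,
   none,
   none,
   none,
   none,
   some (5,[1,27,63,6,81,2919,729,513]),
   some (9,[65,1,27,6,729,810,2919,513]),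
   some (12,[47,1,54,6,1458,1539,5838,513]),
   none,
   none,
   none,
   none,
   none,
   none,
   some (3,[4381,2190,729,4377,81,621,4386,1971]),
   some (3,[2207,2895,891,4839,1458,3081,356,2193]),
   some (3,[46,4998,1620,2649,1458,2352,56,2355]),
   none,
   none,
   none,
   none,
   none,
   none]

def certTable2Row2 : List (Option (ℕ × List ℕ)) :=
  [some (16,[1,2193,729,6,81,756,4386,540]),
   some (3,[1,5835,729,3,1539,789,2983,4647]),
   some (3,[2482,57,1620,4917,1458,4377,4919,87]),
   none,
   none,
   none,
   none,
   none,
   none,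
   some (3,[2194,4377,1458,2190,81,594,2208,1269]),
   some (3,[532,2487,810,5079,1458,2274,514,2190]),
   some (3,[47,4839,1539,2814,1458,2274,55,2271]),
   none,
   none,
   none,
   none,
   none,
   none,
   some (5,[7,54,3,18,81,4377,351,1458]),
   some (9,[47,1,54,6,1458,1539,5835,540]),
   some (12,[46,56,1,3,1458,5835,4458,270]),
   none,
   none,
   none,
   none,
   none,
   none]

def certTable2Row3 : List (Option (ℕ × List ℕ)) :=
  [some (5,[1,270,549,2193,81,732,729,27]),
   some (9,[551,1,270,2193,729,810,732,27]),
   some (12,[290,1,540,2193,1458,1539,1464,27]),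
   none,
   none,
   none,
   none,
   none,
   none,
   some (3,[7,3,729,2190,81,378,2199,1485]),
   some (3,[307,2703,1539,192,729,87,298,2190]),
   some (3,[289,2568,1620,219,1458,165,542,4542]),
   none,
   none,
   none,
   none,
   none,
   none,
   some (3,[18,540,81,54,1458,87,298,4458]),
   some (3,[19,4917,810,57,1458,816,2488,5187]),
   some (3,[445,4809,891,192,729,165,629,2193]),
   none,
   none,
   none,
   none,
   none,
   none]

def certTable2Row4 : List (Option (ℕ × List ℕ)) :=
  [some (3,[4381,2190,1458,3,81,1566,4398,297]),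
   some (3,[2192,4380,729,6,1620,219,2201,4893]),
   some (3,[307,192,891,2703,729,2190,515,87]),
   none,
   none,
   none,
   none,
   none,
   none,
   some (5,[4,27,9,6,81,2190,729,594]),
   some (9,[38,55,27,6,729,810,2271,513]),
   some (12,[74,27,1,6,1458,3648,1539,513]),
   none,
   none,
   none,
   none,
   none,
   none,
   some (3,[1,3648,729,4377,81,540,4926,1971]),
   some (3,[20,2733,891,4677,1458,3081,62,3084]),
   some (3,[19,4917,1620,2487,1458,2190,2,2193]),
   none,
   none,
   none,
   none,
   none,
   none]

def certTable2Row5 : List (Option (ℕ × List ℕ)) :=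
  [some (3,[1,4377,729,3,81,783,2202,270]),
   some (3,[1,4377,729,3,1539,789,2203,4647]),
   some (3,[2,2193,1458,6,1620,1491,4396,4917]),
   none,
   none,
   none,
   none,
   none,
   none,
   some (3,[1,4377,1458,2190,81,513,2208,1269]),
   some (3,[316,2487,810,4998,1458,3732,2704,2190]),
   some (3,[50,4677,1539,2733,1458,2274,61,2271]),
   none,
   none,
   none,
   none,
   none,
   none,
   some (5,[27,1,9,3,2193,81,729,270]),
   some (9,[20,1,54,6,1458,1539,4377,540]),
   some (12,[18,60,1,3,1458,4377,81,4647]),
   none,
   none,
   none,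
   none,
   none,
   none]

def certTable2Row6 : List (Option (ℕ × List ℕ)) :=
  [some (5,[4378,270,9,2193,81,3,729,108]),
   some (9,[281,541,270,2193,729,810,84,27]),
   some (12,[560,270,1,2193,1458,1461,1539,27]),
   none,
   none,
   none,
   none,
   none,
   none,
   some (3,[1,1461,729,2190,81,297,2496,1485]),
   some (3,[20,4677,891,60,1458,894,2735,5271]),
   some (3,[611,4974,810,114,729,87,463,2190]),
   none,
   none,
   none,
   none,
   none,
   none,
   some (3,[288,540,81,54,1458,1545,298,4458]),
   some (3,[289,4917,810,219,1458,87,271,4377]),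
   some (3,[533,2895,1539,141,1458,87,298,4458]),
   none,
   none,
   none,
   none,
   none,
   none]

def certTable2Row7 : List (Option (ℕ × List ℕ)) :=
  [some (3,[1,2190,1458,3,81,1485,4398,297]),
   some (3,[2,4380,729,6,1620,786,2201,4893]),
   some (3,[1,2190,1458,3,1539,1488,4400,4677]),
   none,
   none,
   none,
   none,
   none,
   none,
   some (5,[1,27,9,6,81,2190,729,513]),
   some (9,[11,1,27,6,729,810,2190,513]),
   some (12,[20,1,54,6,1458,1539,4380,513]),
   none,
   none,
   none,
   none,
   none,
   none,
   some (3,[1,2190,729,4377,81,540,4386,1971]),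
   some (3,[1,2190,729,4377,1539,3462,4390,2703]),
   some (3,[52,4917,1620,2487,1458,2352,59,2355]),
   none,
   none,
   none,
   none,
   none,
   none]

def certTable2Row8 : List (Option (ℕ × List ℕ)) :=
  [some (3,[2194,4377,729,3,81,864,2202,270]),
   some (3,[2194,4377,729,3,1539,141,2203,4647]),
   some (3,[289,219,1620,4917,1458,4377,542,87]),
   none,
   none,
   none,
   none,
   none,
   none,
   some (3,[1,5106,1458,2190,81,513,2721,1269]),
   some (3,[19,2487,810,4917,1458,3003,58,3000]),
   some (3,[5062,2865,891,4809,729,4539,2573,4380]),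
   none,
   none,
   none,
   none,
   none,
   none,
   some (5,[72,6,27,1,1458,540,3651,81]),
   some (9,[263,2,27,1464,1458,891,3651,540]),
   some (12,[261,1,486,2187,1458,81,3651,270]),
   none,
   none,
   none,
   none,
   none,
   none]

def certTable2Row9 : List (Option (ℕ × List ℕ)) :=
  [some (9,[1,4917,9,270,81,54,729,57]),
   some (4,[1,3,9,27,81,243,729,2187]),
   some (3,[10,6186,1539,2703,1620,2487,308,3354]),
   none,
   none,
   none,
   none,
   none,
   none,
   some (3,[10,30,891,2703,81,297,2712,1566]),
   some (9,[26,3,19,57,810,3273,891,4377]),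
   some (4,[4388,2463,2194,4377,729,2187,810,2511]),
   none,
   none,
   none,
   none,
   none,
   none,
   some (3,[558,540,81,135,1620,843,2482,4917]),
   some (9,[56,27,20,60,891,3594,1458,513]),
   some (4,[290,5406,1,3648,1458,5832,1539,6075]),
   none,
   none,
   none,
   none,
   none,
   none]

def certTable2Row10 : List (Option (ℕ × List ℕ)) :=
  [some (3,[2449,2487,1620,57,81,1566,4911,378]),
   some (9,[24,3,20,60,1539,6186,162,4377]),
   some (4,[2213,2733,1,4377,1458,4374,1539,6075]),
   none,
   none,
   none,
   none,
   none,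
   none,
   some (9,[16,21,9,27,81,378,1026,2190]),
   some (4,[299,4380,9,513,162,486,729,2349]),
   some (3,[2474,2463,1620,33,1539,141,4927,4647]),
   none,
   none,
   none,
   none,
   none,
   none,
   some (3,[4687,2703,891,4647,81,621,4656,2052]),
   some (9,[18,2193,19,4917,1620,33,81,6]),
   some (4,[11,33,1,3,729,2187,810,2430]),
   none,
   none,
   none,
   none,
   none,
   none]

def certTable2Row11 : List (Option (ℕ × List ℕ)) :=
  [some (3,[13,6105,891,30,81,945,3465,1728]),
   some (9,[21,6,19,57,1620,6513,81,4380]),
   some (4,[4391,4893,1,2190,729,2187,810,3159]),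
   none,
   none,
   none,
   none,
   none,
   none,
   some (3,[505,6375,1620,3945,81,513,3720,1350]),
   some (9,[1,20,540,4647,1539,1458,60,54]),
   some (4,[20,60,1,3,1458,4374,1539,4617]),
   none,
   none,
   none,
   none,
   none,
   none,
   some (22,[25,3,9,27,81,351,810,2193]),
   some (4,[541,4377,9,270,81,243,729,2268]),
   some (3,[2743,2703,1539,30,1620,219,4658,5055]),
   none,
   none,
   none,
   none,
   none,
   none]

def certTable2Row12 : List (Option (ℕ × List ℕ)) :=
  [some (9,[2203,4395,9,270,81,135,783,3]),
   some (4,[1,3,15,27,81,972,729,2187]),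
   some (3,[10,4647,1539,2703,1620,2487,2714,3354]),
   none,
   none,
   none,
   none,
   none,
   none,
   some (3,[70,30,891,2703,81,378,2712,1566]),
   some (9,[10,11,3,33,1620,1539,2463,2193]),
   some (4,[11,2463,1,4377,729,2187,810,2430]),
   none,
   none,
   none,
   none,
   none,
   none,
   some (3,[18,540,81,54,1620,114,316,4998]),
   some (9,[1,80,54,30,1539,1458,4677,1755]),
   some (4,[4400,4677,1,2190,1458,4374,1539,6075]),
   none,
   none,
   none,
   none,
   none,
   none]

def certTable2Row13 : List (Option (ℕ × List ℕ)) :=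
  [some (3,[4879,2487,1620,57,81,1485,4911,459]),
   some (9,[18,10,3,60,1539,81,4647,4377]),
   some (4,[20,2733,1,4377,1458,4374,1539,4617]),
   none,
   none,
   none,
   none,
   none,
   none,
   some (9,[4375,219,9,108,81,459,729,2649]),
   some (4,[298,2190,9,513,81,243,729,2268]),
   some (3,[11,2463,1620,33,1539,1680,4927,4647]),
   none,
   none,
   none,
   none,
   none,
   none,
   some (3,[10,4242,891,4647,81,540,4386,2052]),
   some (9,[4395,2193,19,4917,1620,1653,81,6]),
   some (4,[17,33,1,3,729,2187,810,3159]),
   none,
   none,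
   none,
   none,
   none,
   none]

def certTable2Row14 : List (Option (ℕ × List ℕ)) :=
  [some (3,[10,4647,891,30,81,945,2742,270]),
   some (9,[18,6,73,57,1620,5055,81,4542]),
   some (4,[65,6351,1,2919,729,2916,810,3159]),
   none,
   none,
   none,
   none,
   none,
   none,
   some (3,[19,4917,1620,2487,81,513,2505,1350]),
   some (9,[2208,4380,10,4677,1539,1599,81,3]),
   some (4,[23,60,7,3,1458,4374,1539,4698]),
   none,
   none,
   none,
   none,
   none,
   none,
   some (9,[11,18,6,27,162,1620,540,2193]),
   some (4,[1,4377,9,270,81,243,729,2187]),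
   some (3,[4687,2703,1539,1569,1620,786,524,4893]),
   none,
   none,
   none,
   none,
   none,
   none]

def certTable2Row15 : List (Option (ℕ × List ℕ)) :=
  [some (9,[4399,2199,18,297,81,108,1485,3]),
   some (4,[55,3,9,27,81,243,729,2268]),
   some (3,[11,4893,1620,2463,1539,4353,2497,2703]),
   none,
   none,
   none,
   none,
   none,
   none,
   some (3,[280,1488,891,3432,81,297,2982,1566]),
   some (9,[16,11,3,33,1620,1539,4083,2193]),
   some (4,[2204,2463,1,4377,729,2187,810,3159]),
   none,
   none,
   none,
   none,
   none,
   none,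
   some (3,[5368,1515,1620,5646,81,270,3723,1593]),
   some (9,[1,20,54,30,1539,1458,4677,297]),
   some (4,[20,4677,1,2190,1458,4374,1539,4617]),
   none,
   none,
   none,
   none,
   none,
   none]

def certTable2Row16 : List (Option (ℕ × List ℕ)) :=
  [some (3,[19,2487,1620,57,81,1647,4911,297]),
   some (9,[21,6,10,60,1539,4272,81,4377]),
   some (4,[47,3462,1,5835,1458,5832,1539,6075]),
   none,
   none,
   none,
   none,
   none,
   none,
   some (9,[1,57,9,27,81,297,729,2487]),
   some (4,[1,2190,9,513,81,243,729,2187]),
   some (3,[4928,2463,1620,33,1539,789,4927,4647]),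
   none,
   none,
   none,
   none,
   none,
   none,
   some (3,[10,2703,891,4647,81,540,4656,2052]),
   some (9,[18,2193,559,4917,1620,195,81,168]),
   some (4,[14,33,7,3,729,2187,810,2511]),
   none,
   none,
   none,
   none,
   none,
   none]

def certTable2Row17 : List (Option (ℕ × List ℕ)) :=
  [some (3,[2683,4647,891,30,81,783,2742,432]),
   some (9,[18,6,19,57,1620,4893,81,4380]),
   some (4,[11,4893,1,2190,729,2187,810,2430]),
   none,
   none,
   none,
   none,
   none,
   none,
   some (3,[19,5727,1620,2487,81,513,531,540]),
   some (9,[4398,2190,20,4677,1539,1569,162,3]),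
   some (4,[26,60,1,3,1458,4374,1539,6075]),
   none,
   none,
   none,
   none,
   none,
   none,
   some (9,[2206,18,6,135,81,1620,621,4377]),
   some (4,[1,4377,15,999,81,972,729,2187]),
   some (3,[10,2703,1539,1569,1620,1596,524,4893]),
   none,
   none,
   none,
   none,
   none,
   none]

def certTable2Row18 : List (Option (ℕ × List ℕ)) :=
  [some (12,[19,2193,9,540,81,27,810,6]),
   some (3,[4391,3921,810,4893,1539,2703,2210,3462]),
   some (4,[20,60,19,57,810,2430,891,2673]),
   none,
   none,
   none,
   none,
   none,
   none,
   some (3,[4912,57,810,2487,81,297,2496,1485]),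
   some (4,[559,4917,9,270,81,243,810,2511]),
   some (12,[28,20,54,30,1539,1458,6186,270]),
   none,
   none,
   none,
   none,
   none,
   none,
   some (3,[4384,759,1539,5376,81,999,2205,1512]),
   some (4,[317,4677,9,513,162,486,891,2835]),
   some (25,[55,27,11,33,810,3297,729,513]),
   none,
   none,
   none,
   none,
   none,
   none]

def certTable2Row19 : List (Option (ℕ × List ℕ)) :=
  [some (3,[2200,2703,1539,1488,81,1485,4398,297]),
   some (4,[290,2733,549,270,162,486,891,3402]),
   some (12,[21,6,19,57,1620,6537,81,4377]),
   none,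
   none,
   none,
   none,
   none,
   none,
   some (12,[4399,6,2199,783,81,513,810,4380]),
   some (3,[2203,4647,891,1488,1620,1491,4396,4917]),
   some (4,[4913,4677,19,2487,810,2430,891,3483]),
   none,
   none,
   none,
   none,
   none,
   none,
   some (3,[2212,3216,810,4917,81,540,4386,1971]),
   some (4,[19,57,9,27,81,243,810,2430]),
   some (12,[18,2193,10,2733,1539,30,81,6]),
   none,
   none,
   none,
   none,
   none,
   none]

def certTable2Row20 : List (Option (ℕ × List ℕ)) :=
  [some (3,[4396,4917,810,786,81,783,2202,270]),
   some (4,[2212,2649,9,594,81,324,810,2511]),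
   some (12,[18,6,2200,141,1539,2703,81,4380]),
   none,
   none,
   none,
   none,
   none,
   none,
   some (3,[4390,6105,1539,2703,81,513,2208,1269]),
   some (4,[20,60,9,27,162,486,891,2673]),
   some (12,[2,270,19,2463,1620,57,1458,27]),
   none,
   none,
   none,
   none,
   none,
   none,
   some (12,[16,21,9,27,81,351,999,2193]),
   some (3,[4904,4893,810,33,1539,1488,2507,4677]),
   some (4,[2744,2463,10,4647,1539,4617,1620,6399]),
   none,
   none,
   none,
   none,
   none,
   none]

def certTable2Row21 : List (Option (ℕ × List ℕ)) :=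
  [some (12,[2212,4386,18,540,81,135,1512,6]),
   some (3,[4390,2703,891,6105,1620,3921,2209,2487]),
   some (4,[53,60,19,57,810,2430,891,3483]),
   none,
   none,
   none,
   none,
   none,
   none,
   some (3,[4399,786,810,2487,81,297,2199,1485]),
   some (4,[19,4917,9,270,81,243,810,2430]),
   some (12,[1,20,54,30,1539,1458,4647,270]),
   none,
   none,
   none,
   none,
   none,
   none,
   some (3,[4387,759,1539,4647,81,270,2211,1512]),
   some (4,[23,4758,9,675,162,648,891,2835]),
   some (12,[56,27,19,33,1620,4107,1458,513]),
   none,
   none,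
   none,
   none,
   none,
   none]

def certTable2Row22 : List (Option (ℕ × List ℕ)) :=
  [some (3,[3199,3432,1539,759,81,1485,6396,297]),
   some (4,[20,2733,9,270,162,486,891,2673]),
   some (12,[9,19,3,33,810,81,2463,2193]),
   none,
   none,
   none,
   none,
   none,
   none,
   some (12,[22,6,9,54,81,594,810,4380]),
   some (3,[44,33,810,2463,1539,6105,77,60]),
   some (4,[4688,4893,10,2703,1539,4617,1620,6399]),
   none,
   none,
   none,
   none,
   none,
   none,
   some (3,[1993,3216,810,4917,81,621,4386,1971]),
   some (4,[46,57,63,27,81,243,810,3159]),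
   some (12,[515,297,10,4677,891,921,729,54]),
   none,
   none,
   none,
   none,
   none,
   none]

def certTable2Row23 : List (Option (ℕ × List ℕ)) :=
  [some (3,[4393,5646,810,786,81,783,2196,1728]),
   some (4,[316,2487,9,513,81,243,810,2511]),
   some (12,[21,6,10,60,1539,4242,81,4380]),
   none,
   none,
   none,
   none,
   none,
   none,
   some (3,[10,4647,1539,2703,81,513,18,540]),
   some (4,[74,60,9,27,162,486,891,2835]),
   some (25,[541,270,11,2463,810,867,729,27]),
   none,
   none,
   none,
   none,
   none,
   none,
   some (12,[1,57,9,27,81,270,729,2463]),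
   some (3,[10,921,891,2703,1620,4893,4399,1596]),
   some (4,[11,2463,10,4647,1539,4617,1620,4860]),
   none,
   none,
   none,
   none,
   none,
   none]

def certTable2Row24 : List (Option (ℕ × List ℕ)) :=
  [some (12,[4396,2193,9,540,81,108,810,6]),
   some (3,[4388,2463,810,6351,1539,4161,2213,2733]),
   some (4,[71,33,10,30,1539,4617,1620,6399]),
   none,
   none,
   none,
   none,
   none,
   none,
   some (3,[4396,786,810,2568,81,378,2199,1485]),
   some (4,[25,5079,9,351,81,324,810,2511]),
   some (12,[29,54,10,60,891,5538,729,540]),
   none,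
   none,
   none,
   none,
   none,
   none,
   some (3,[4397,789,891,2733,162,540,2202,1485]),
   some (4,[20,4677,9,513,162,486,891,2673]),
   some (12,[2,27,19,33,1620,2487,1458,513]),
   none,
   none,
   none,
   none,
   none,
   none]

def certTable2Row25 : List (Option (ℕ × List ℕ)) :=
  [some (3,[2197,4161,1539,1488,81,1485,4392,1026]),
   some (4,[560,2733,9,270,162,486,891,2835]),
   some (12,[24,3,11,57,1620,4083,162,4377]),
   none,
   none,
   none,
   none,
   none,
   none,
   some (12,[19,6,9,54,81,513,810,4380]),
   some (3,[2204,1491,810,2463,1539,4647,4397,789]),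
   some (4,[20,4677,19,2487,810,2430,891,2673]),
   none,
   none,
   none,
   none,
   none,
   none,
   some (3,[2482,2487,810,4917,81,540,4926,1971]),
   some (4,[73,57,9,27,81,243,810,2511]),
   some (12,[4395,2193,10,2733,1539,1569,81,6]),
   none,
   none,
   none,
   none,
   none,
   none]

def certTable2Row26 : List (Option (ℕ × List ℕ)) :=
  [some (3,[25,5646,810,57,81,54,12,1728]),
   some (4,[19,2487,9,513,81,243,810,2430]),
   some (12,[18,6,10,60,1539,2703,81,4380]),
   none,
   none,
   none,
   none,
   none,
   none,
   some (3,[4384,6267,1539,2784,81,594,2208,1350]),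
   some (4,[47,60,63,27,162,486,891,3402]),
   some (12,[542,270,19,2463,1620,1677,1458,27]),
   none,
   none,
   none,
   none,
   none,
   none,
   some (12,[1,1515,4386,756,81,270,729,2463]),
   some (3,[11,4893,810,33,1539,840,2507,4677]),
   some (4,[2483,2733,19,4917,810,2430,891,3483]),
   none,
   none,
   none,
   none,
   none,
   none]

def certTable2 : List (Option (ℕ × List ℕ)) :=
  List.flatten [certTable2Row0, certTable2Row1, certTable2Row2, certTable2Row3, certTable2Row4, certTable2Row5, certTable2Row6, certTable2Row7, certTable2Row8, certTable2Row9, certTable2Row10, certTable2Row11, certTable2Row12, certTable2Row13, certTable2Row14, certTable2Row15, certTable2Row16, certTable2Row17, certTable2Row18, certTable2Row19, certTable2Row20, certTable2Row21, certTable2Row22, certTable2Row23, certTable2Row24, certTable2Row25, certTable2Row26]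

theorem checkLevi2 : checkLevi 2 certTable2 = true := by
  decide +kernel

end CfsgLib.SmallGroups.Omega8Three
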