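import Cfsg.Agent.Lib.SmallGroups.Omega8Three.Cert

/-!
Conjugacy certificates for the Levi factor (1, 0, 0, 1, 0, 0).
-/

set_option autoImplicit false

namespace CfsgLib.SmallGroups.Omega8Three

def certTable3Row0 : List (Option (ℕ × List ℕ)) :=
  [some (3,[1,21,9,27,81,243,972,2187]),
   none,
   none,
   some (3,[1,21,2196,1971,81,243,972,2187]),
   none,
   none,
   some (3,[1,21,4383,999,81,243,972,2187]),
   none,
   none,
   none,
   none,
   none,
   none,
   none,
   none,
   none,
   none,
   none,
   none,
   none,
   none,
   none,
   none,
   none,
   none,
   none,
   none]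

def certTable3Row1 : List (Option (ℕ × List ℕ)) :=
  [some (3,[1,2208,9,513,81,243,972,2187]),
   none,
   none,
   some (3,[1,2208,2196,1728,81,243,972,2187]),
   none,
   none,
   some (3,[1,2208,4383,756,81,243,972,2187]),
   none,
   none,
   none,
   none,
   none,
   none,
   none,
   none,
   none,
   none,
   none,
   none,
   none,
   none,
   none,
   none,
   none,
   none,
   none,
   none]

def certTable3Row2 : List (Option (ℕ × List ℕ)) :=
  [some (3,[1,4395,9,270,81,243,972,2187]),
   none,
   none,
   some (3,[1,4395,2196,1485,81,243,972,2187]),
   none,
   none,
   some (3,[1,4395,4383,1242,81,243,972,2187]),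
   none,
   none,
   none,
   none,
   none,
   none,
   none,
   none,
   none,
   none,
   none,
   none,
   none,
   none,
   none,
   none,
   none,
   none,
   none,
   none]

def certTable3Row3 : List (Option (ℕ × List ℕ)) :=
  [some (3,[1,993,495,27,81,243,972,2187]),
   none,
   none,
   some (3,[1,993,2682,1971,81,243,972,2187]),
   none,
   none,
   some (3,[1,993,4869,999,81,243,972,2187]),
   none,
   none,
   none,
   none,
   none,
   none,
   none,
   none,
   none,
   none,
   none,
   none,
   none,
   none,
   none,
   none,
   none,
   none,
   none,
   none]

def certTable3Row4 : List (Option (ℕ × List ℕ)) :=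
  [some (3,[1,3180,495,45,81,243,3159,2187]),
   none,
   none,
   some (3,[1,3180,2682,1728,81,243,972,2187]),
   none,
   none,
   some (3,[1,3180,4869,756,81,243,972,2187]),
   none,
   none,
   none,
   none,
   none,
   none,
   none,
   none,
   none,
   none,
   none,
   none,
   none,
   none,
   none,
   none,
   none,
   none,
   none,
   none]

def certTable3Row5 : List (Option (ℕ × List ℕ)) :=
  [some (3,[1,5367,495,270,81,243,972,2187]),
   none,
   none,
   some (16,[2,732,4635,1485,162,243,1458,2187]),
   none,
   none,
   some (3,[1,5367,4869,2961,81,243,3159,2187]),
   none,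
   none,
   none,
   none,
   none,
   none,
   none,
   none,
   none,
   none,
   none,
   none,
   none,
   none,
   none,
   none,
   none,
   none,
   none,
   none]

def certTable3Row6 : List (Option (ℕ × List ℕ)) :=
  [some (3,[1,1965,252,27,81,243,972,2187]),
   none,
   none,
   some (3,[1,1965,2439,1971,81,243,972,2187]),
   none,
   none,
   some (3,[1,1965,4626,999,81,243,972,2187]),
   none,
   none,
   none,
   none,
   none,
   none,
   none,
   none,
   none,
   none,
   none,
   none,
   none,
   none,
   none,
   none,
   none,
   none,
   none,
   none]

def certTable3Row7 : List (Option (ℕ × List ℕ)) :=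
  [some (3,[1,4152,252,513,81,243,972,2187]),
   none,
   none,
   some (3,[1,4152,2439,1728,81,243,972,2187]),
   none,
   none,
   some (3,[1,4152,4626,756,81,243,972,2187]),
   none,
   none,
   none,
   none,
   none,
   none,
   none,
   none,
   none,
   none,
   none,
   none,
   none,
   none,
   none,
   none,
   none,
   none,
   none,
   none]

def certTable3Row8 : List (Option (ℕ × List ℕ)) :=
  [some (3,[1,6339,252,270,81,243,972,2187]),
   none,
   none,
   some (3,[1,6339,2439,1485,81,243,972,2187]),
   none,
   none,
   some (3,[1,6339,4626,1242,81,243,972,2187]),
   none,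
   none,
   none,
   none,
   none,
   none,
   none,
   none,
   none,
   none,
   none,
   none,
   none,
   none,
   none,
   none,
   none,
   none,
   none,
   none]

def certTable3Row9 : List (Option (ℕ × List ℕ)) :=
  [some (3,[973,21,171,27,81,243,972,2187]),
   none,
   none,
   some (3,[1999,21,2358,1971,81,243,972,2268]),
   none,
   none,
   some (3,[55,21,4545,999,81,243,972,2268]),
   none,
   none,
   none,
   none,
   none,
   none,
   none,
   none,
   none,
   none,
   none,
   none,
   none,
   none,
   none,
   none,
   none,
   none,
   none,
   none]

def certTable3Row10 : List (Option (ℕ × List ℕ)) :=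
  [some (3,[1466,4380,99,315,162,495,1464,4374]),
   none,
   none,
   some (3,[1513,2208,2358,1728,81,243,972,2268]),
   none,
   none,
   some (3,[55,2289,4545,756,81,243,972,2268]),
   none,
   none,
   none,
   none,
   none,
   none,
   none,
   none,
   none,
   none,
   none,
   none,
   none,
   none,
   none,
   none,
   none,
   none,
   none,
   none]

def certTable3Row11 : List (Option (ℕ × List ℕ)) :=
  [some (3,[973,4395,171,270,81,243,972,2187]),
   none,
   none,
   some (3,[1513,4476,2358,1485,81,243,972,2268]),
   none,
   none,
   some (3,[55,4557,4545,1242,81,243,972,2268]),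
   none,
   none,
   none,
   none,
   none,
   none,
   none,
   none,
   none,
   none,
   none,
   none,
   none,
   none,
   none,
   none,
   none,
   none,
   none,
   none]

def certTable3Row12 : List (Option (ℕ × List ℕ)) :=
  [some (3,[1462,732,657,27,81,405,729,2187]),
   none,
   none,
   some (3,[1999,993,2844,1971,81,243,972,2268]),
   none,
   none,
   some (3,[55,993,5031,999,81,243,972,2268]),
   none,
   none,
   none,
   none,
   none,
   none,
   none,
   none,
   none,
   none,
   none,
   none,
   none,
   none,
   none,
   none,
   none,
   none,
   none,
   none]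

def certTable3Row13 : List (Option (ℕ × List ℕ)) :=
  [some (3,[5836,2919,657,45,81,405,2916,2187]),
   none,
   none,
   some (3,[1513,3180,2844,1728,81,243,972,2268]),
   none,
   none,
   some (3,[1462,732,5031,756,81,405,729,2187]),
   none,
   none,
   none,
   none,
   none,
   none,
   none,
   none,
   none,
   none,
   none,
   none,
   none,
   none,
   none,
   none,
   none,
   none,
   none,
   none]

def certTable3Row14 : List (Option (ℕ × List ℕ)) :=
  [some (3,[5836,5106,657,270,81,405,729,2187]),
   none,
   none,
   some (16,[56,732,4716,1485,162,243,1458,2349]),
   none,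
   none,
   some (3,[5836,2919,5031,2961,81,405,2916,2187]),
   none,
   none,
   none,
   none,
   none,
   none,
   none,
   none,
   none,
   none,
   none,
   none,
   none,
   none,
   none,
   none,
   none,
   none,
   none,
   none]

def certTable3Row15 : List (Option (ℕ × List ℕ)) :=
  [some (3,[4,1461,414,27,81,405,729,2187]),
   none,
   none,
   some (3,[1999,1965,2601,1971,81,243,972,2268]),
   none,
   none,
   some (3,[55,1965,4788,999,81,243,972,2268]),
   none,
   none,
   none,
   none,
   none,
   none,
   none,
   none,
   none,
   none,
   none,
   none,
   none,
   none,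
   none,
   none,
   none,
   none,
   none,
   none]

def certTable3Row16 : List (Option (ℕ × List ℕ)) :=
  [some (3,[2191,3648,414,513,81,405,729,2187]),
   none,
   none,
   some (3,[1513,4152,2601,1728,81,243,972,2268]),
   none,
   none,
   some (3,[55,4233,4788,756,81,243,972,2268]),
   none,
   none,
   none,
   none,
   none,
   none,
   none,
   none,
   none,
   none,
   none,
   none,
   none,
   none,
   none,
   none,
   none,
   none,
   none,
   none]

def certTable3Row17 : List (Option (ℕ × List ℕ)) :=
  [some (3,[4378,5835,414,270,81,405,729,2187]),
   none,
   none,
   some (3,[1513,6420,2601,1485,81,243,972,2268]),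
   none,
   none,
   some (3,[55,6501,4788,1242,81,243,972,2268]),
   none,
   none,
   none,
   none,
   none,
   none,
   none,
   none,
   none,
   none,
   none,
   none,
   none,
   none,
   none,
   none,
   none,
   none,
   none,
   none]

def certTable3Row18 : List (Option (ℕ × List ℕ)) :=
  [some (3,[1945,21,90,27,81,243,972,2187]),
   none,
   none,
   some (3,[1945,21,2277,1971,81,243,972,2187]),
   none,
   none,
   some (3,[1945,21,4464,999,81,243,972,2187]),
   none,
   none,
   none,
   none,
   none,
   none,
   none,
   none,
   none,
   none,
   none,
   none,
   none,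
   none,
   none,
   none,
   none,
   none,
   none,
   none]

def certTable3Row19 : List (Option (ℕ × List ℕ)) :=
  [some (3,[1945,2208,90,513,81,243,972,2187]),
   none,
   none,
   some (3,[1945,2208,2277,1728,81,243,972,2187]),
   none,
   none,
   some (3,[1945,2208,4464,756,81,243,972,2187]),
   none,
   none,
   none,
   none,
   none,
   none,
   none,
   none,
   none,
   none,
   none,
   none,
   none,
   none,
   none,
   none,
   none,
   none,
   none,
   none]

def certTable3Row20 : List (Option (ℕ × List ℕ)) :=
  [some (3,[1945,4395,90,270,81,243,972,2187]),
   none,
   none,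
   some (3,[1945,4395,2277,1485,81,243,972,2187]),
   none,
   none,
   some (3,[1945,4395,4464,1242,81,243,972,2187]),
   none,
   none,
   none,
   none,
   none,
   none,
   none,
   none,
   none,
   none,
   none,
   none,
   none,
   none,
   none,
   none,
   none,
   none,
   none,
   none]

def certTable3Row21 : List (Option (ℕ × List ℕ)) :=
  [some (3,[4,732,576,27,81,405,729,2187]),
   none,
   none,
   some (3,[1945,993,2763,1971,81,243,972,2187]),
   none,
   none,
   some (3,[1945,993,4950,999,81,243,972,2187]),
   none,
   none,
   none,
   none,
   none,
   none,
   none,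
   none,
   none,
   none,
   none,
   none,
   none,
   none,
   none,
   none,
   none,
   none,
   none,
   none]

def certTable3Row22 : List (Option (ℕ × List ℕ)) :=
  [some (3,[4,2919,576,45,81,405,2916,2187]),
   none,
   none,
   some (3,[1945,3180,2763,1728,81,243,972,2187]),
   none,
   none,
   some (3,[4,732,4950,756,81,405,729,2187]),
   none,
   none,
   none,
   none,
   none,
   none,
   none,
   none,
   none,
   none,
   none,
   none,
   none,
   none,
   none,
   none,
   none,
   none,
   none,
   none]

def certTable3Row23 : List (Option (ℕ × List ℕ)) :=
  [some (3,[4378,5106,576,270,81,405,729,2187]),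
   none,
   none,
   some (3,[787,732,2763,1485,81,2196,1491,261]),
   none,
   none,
   some (3,[4,2919,4950,2961,81,405,2916,2187]),
   none,
   none,
   none,
   none,
   none,
   none,
   none,
   none,
   none,
   none,
   none,
   none,
   none,
   none,
   none,
   none,
   none,
   none,
   none,
   none]

def certTable3Row24 : List (Option (ℕ × List ℕ)) :=
  [some (3,[733,1461,333,27,81,405,729,2187]),
   none,
   none,
   some (3,[1945,1965,2520,1971,81,243,972,2187]),
   none,
   none,
   some (3,[1945,1965,4707,999,81,243,972,2187]),
   none,
   none,
   none,
   none,
   none,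
   none,
   none,
   none,
   none,
   none,
   none,
   none,
   none,
   none,
   none,
   none,
   none,
   none,
   none,
   none]

def certTable3Row25 : List (Option (ℕ × List ℕ)) :=
  [some (3,[2920,3648,333,513,81,405,729,2187]),
   none,
   none,
   some (3,[1945,4152,2520,1728,81,243,972,2187]),
   none,
   none,
   some (3,[733,1461,4707,756,81,405,729,2187]),
   none,
   none,
   none,
   none,
   none,
   none,
   none,
   none,
   none,
   none,
   none,
   none,
   none,
   none,
   none,
   none,
   none,
   none,
   none,
   none]

def certTable3Row26 : List (Option (ℕ × List ℕ)) :=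
  [some (3,[5107,5835,333,270,81,405,729,2187]),
   none,
   none,
   some (3,[733,1461,2520,1485,81,405,729,2187]),
   none,
   none,
   some (3,[1945,6339,4707,1242,81,243,972,2187]),
   none,
   none,
   none,
   none,
   none,
   none,
   none,
   none,
   none,
   none,
   none,
   none,
   none,
   none,
   none,
   none,
   none,
   none,
   none,
   none]

def certTable3 : List (Option (ℕ × List ℕ)) :=
  List.flatten [certTable3Row0, certTable3Row1, certTable3Row2, certTable3Row3, certTable3Row4, certTable3Row5, certTable3Row6, certTable3Row7, certTable3Row8, certTable3Row9, certTable3Row10, certTable3Row11, certTable3Row12, certTable3Row13, certTable3Row14, certTable3Row15, certTable3Row16, certTable3Row17, certTable3Row18, certTable3Row19, certTable3Row20, certTable3Row21, certTable3Row22, certTable3Row23, certTable3Row24, certTable3Row25, certTable3Row26]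

theorem checkLevi3 : checkLevi 3 certTable3 = true := by
  decide +kernel

end CfsgLib.SmallGroups.Omega8Three
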