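import Cfsg.Agent.Lib.SmallGroups.Omega8Three.FixCount

/-!
The thirteen representatives generate pairwise non-conjugate subgroups under the commutator subgroup:
a weighted count of fixed vectors, the Pfaffian and the family of a fixed totally singular subspace,
and an orientation for the classes with a three-dimensional singular fixed space.
-/

set_option autoImplicit false

namespace CfsgLib.SmallGroups.Omega8Three

open Matrix

/-- The Pfaffian. -/
def pf4 (S : M4) : ZMod 3 := S 0 1 * S 2 3 - S 0 2 * S 1 3 + S 0 3 * S 1 2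

theorem pf4_conj (A : M4) (s : T6) : pf4 (A * skewMat s * Aᵀ) = A.det * pf4 (skewMat s) := by
  simp [pf4, skewMat, Matrix.mul_apply, Fin.sum_univ_four, Matrix.det_succ_row_zero, Fin.sum_univ_succ,
    Fin.succAbove]
  ring

/-- Unipotent elements acting trivially on the subspace and its quotient. -/
def ShapeP (X : M8) : Prop :=
  blA X = 1 ∧ blC X = 0 ∧ blD X = 1 ∧ blB X * (-blB X) = 1 ∧ ∃ s : T6, blB X = skewMat s

theorem shapeP_facts : ∀ k : Fin 13, k = 5 ∨ k = 6 →
    (blA (repMat k) = 1 ∧ blC (repMat k) = 0 ∧ blD (repMat k) = 1 ∧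
      blB (repMat k) * (-blB (repMat k)) = 1 ∧ blB (repMat k) = skewMat ![1, 0, 0, 0, 0, if k = 5 then 1 else 2]) ∧
    (blA (repMat k * repMat k) = 1 ∧ blC (repMat k * repMat k) = 0 ∧ blD (repMat k * repMat k) = 1 ∧
      blB (repMat k * repMat k) * (-blB (repMat k * repMat k)) = 1 ∧
      blB (repMat k * repMat k) = skewMat ![2, 0, 0, 0, 0, if k = 5 then 2 else 1]) ∧
    pf4 (blB (repMat k)) = (if k = 5 then 1 else 2) ∧
    pf4 (blB (repMat k * repMat k)) = (if k = 5 then 1 else 2) := by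
  decide +kernel

theorem shapeP_rep {k : Fin 13} (hk : k = 5 ∨ k = 6) : ShapeP (repMat k) ∧ ShapeP (repMat k * repMat k) := by
  obtain ⟨⟨a, b, c, d, e⟩, ⟨a', b', c', d', e'⟩, -⟩ := shapeP_facts k hk
  exact ⟨⟨a, b, c, d, _, e⟩, ⟨a', b', c', d', _, e'⟩⟩

theorem eq_blocks {g : O8} {X Y : M8} (h : val8 g * X = Y * val8 g) :
    blk (blA (val8 g) * blA X + blB (val8 g) * blC X) (blA (val8 g) * blB X + blB (val8 g) * blD X)
        (blC (val8 g) * blA X + blD (val8 g) * blC X) (blC (val8 g) * blB X + blD (val8 g) * blD X) =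
      blk (blA Y * blA (val8 g) + blB Y * blC (val8 g)) (blA Y * blB (val8 g) + blB Y * blD (val8 g))
        (blC Y * blA (val8 g) + blD Y * blC (val8 g)) (blC Y * blB (val8 g) + blD Y * blD (val8 g)) := by
  rw [← blk_mul, ← blk_mul, blk_eta, blk_eta, blk_eta, h]

theorem blC_eq_zero_of_shapeP {g : O8} {X Y : M8} (hX : ShapeP X) (hY : ShapeP Y)
    (h : val8 g * X = Y * val8 g) : blC (val8 g) = 0 := by
  obtain ⟨hA, -, -, -⟩ := blk_inj (eq_blocks h)
  rw [hX.1, hX.2.1, hY.1, mul_one, mul_zero, one_mul, add_zero, left_eq_add] at hA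
  have := congrArg ((-blB Y) * ·) hA
  simp only [mul_zero] at this
  rwa [← mul_assoc, mul_eq_one_comm.1 hY.2.2.2.1, one_mul] at this

theorem pf4_eq_of_conj {w : O8} (hw : w ∈ W8) {X Y : M8} (hX : ShapeP X) (hY : ShapeP Y)
    (h : val8 w * X = Y * val8 w) : pf4 (blB X) = pf4 (blB Y) := by
  have hC := blC_eq_zero_of_shapeP hX hY h
  obtain ⟨-, hB, -, -⟩ := blk_inj (eq_blocks h)
  rw [hX.2.2.1, hY.1, mul_one, one_mul, add_comm, add_left_cancel_iff] at hB
  have hAD : blD (val8 w) * (blA (val8 w))ᵀ = 1 := mul_eq_one_comm.1 (gram_blk_of_blC hC)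
  obtain ⟨s, hs⟩ := hX.2.2.2.2
  have e : blA (val8 w) * blB X * (blA (val8 w))ᵀ = blB Y := by rw [hB, mul_assoc, hAD, mul_one]
  rw [← e, hs, pf4_conj, det_blA_of_mem hw hC, one_mul]

theorem not_rElt_mul_of_shapeP {w : O8} (hw : w ∈ W8) {X Y : M8} (hX : ShapeP X) (hY : ShapeP Y) :
    val8 (rElt * w) * X ≠ Y * val8 (rElt * w) := by
  intro h
  have := det_val8_of_blC (blC_eq_zero_of_shapeP hX hY h)
  rw [map_mul, det_mul, det_W8 hw, mul_one, val_rElt, det_rMat] at this
  exact absurd this (by decide)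

/-- The root element in the top block. -/
def cMat (c : ZMod 3) : T6 := ![0, 0, c, 0, 0, 0]

/-- Elements with a three-dimensional singular fixed space in standard position. -/
def ShapeC (X : M8) (c : ZMod 3) : Prop :=
  c ≠ 0 ∧ blA X = uniMat (cMat c) ∧ blC X = 0 ∧ blD X = uniDual (cMat c) ∧
    (blB X 1 1 = 0 ∧ blB X 2 2 = 0 ∧ blB X 3 3 = 0 ∧ blB X 1 3 = 0 ∧ blB X 2 3 = 0 ∧ blB X 3 1 = 0 ∧
      blB X 3 2 = 0 ∧ blB X 2 1 = -blB X 1 2)

theorem shapeC_facts : ∀ k : Fin 13, 9 ≤ k.val →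
    ((1 : ZMod 3) ≠ 0 ∧ blA (repMat k) = uniMat (cMat 1) ∧ blC (repMat k) = 0 ∧
      blD (repMat k) = uniDual (cMat 1) ∧
      (blB (repMat k) 1 1 = 0 ∧ blB (repMat k) 2 2 = 0 ∧ blB (repMat k) 3 3 = 0 ∧ blB (repMat k) 1 3 = 0 ∧
        blB (repMat k) 2 3 = 0 ∧ blB (repMat k) 3 1 = 0 ∧ blB (repMat k) 3 2 = 0 ∧
        blB (repMat k) 2 1 = -blB (repMat k) 1 2)) ∧
    ((2 : ZMod 3) ≠ 0 ∧ blA (repMat k * repMat k) = uniMat (cMat 2) ∧ blC (repMat k * repMat k) = 0 ∧
      blD (repMat k * repMat k) = uniDual (cMat 2) ∧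
      (blB (repMat k * repMat k) 1 1 = 0 ∧ blB (repMat k * repMat k) 2 2 = 0 ∧
        blB (repMat k * repMat k) 3 3 = 0 ∧ blB (repMat k * repMat k) 1 3 = 0 ∧
        blB (repMat k * repMat k) 2 3 = 0 ∧ blB (repMat k * repMat k) 3 1 = 0 ∧
        blB (repMat k * repMat k) 3 2 = 0 ∧
        blB (repMat k * repMat k) 2 1 = -blB (repMat k * repMat k) 1 2)) ∧
    blB (repMat k) 1 2 = (if k = 9 ∨ k = 11 then 1 else 2) ∧
    2 * blB (repMat k * repMat k) 1 2 = (if k = 9 ∨ k = 11 then 1 else 2) := by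
  decide +kernel

theorem low_of_conj {g : O8} {X Y : M8} {c : ZMod 3} (hX : ShapeC X c)
    (hY : ∀ v, Y *ᵥ v = v → q8 v = 0 → ∀ j : Fin 8, 3 ≤ j.val → v j = 0)
    (h : val8 g * X = Y * val8 g) : ∀ i k : Fin 8, 3 ≤ i.val → k.val < 3 → val8 g i k = 0 := by
  intro i k hi hk
  have hXk : X *ᵥ Pi.single k 1 = Pi.single k 1 := by
    rw [← blk_eta X, hX.2.1, hX.2.2.1]
    ext a
    rw [mulVec_single_one]
    fin_cases k <;> simp at hk <;> fin_cases a <;> simp [blk, uniMat, cMat]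
  have hq : q8 (Pi.single k 1 : Fin 8 → ZMod 3) = 0 := by
    fin_cases k <;> simp at hk <;> decide +kernel
  have h1 := hY (val8 g *ᵥ Pi.single k 1) (by rw [mulVec_mulVec, ← h, ← mulVec_mulVec, hXk])
    (by rw [← hq]; exact (mem_O8_iff _).1 g.2 _) i hi
  simpa [mulVec_single_one] using h1

theorem orient_eq_of_conj {w : O8} (hw : w ∈ W8) {X Y : M8} {c c' : ZMod 3} (hX : ShapeC X c) (hY : ShapeC Y c')
    (hfX : ∀ v, X *ᵥ v = v → q8 v = 0 → ∀ j : Fin 8, 3 ≤ j.val → v j = 0)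
    (hfY : ∀ v, Y *ᵥ v = v → q8 v = 0 → ∀ j : Fin 8, 3 ≤ j.val → v j = 0)
    (h : val8 w * X = Y * val8 w) : c' * blB Y 1 2 = c * blB X 1 2 := by
  have hlow := low_of_conj hX hfY h
  have hinv : val8 w⁻¹ * Y = X * val8 w⁻¹ := by
    refine val8_mul_left_cancel w ?_
    rw [← mul_assoc, val8_mul_inv, one_mul, ← mul_assoc, h, mul_assoc, val8_mul_inv, mul_one]
  have hlow' := low_of_conj hY hfX hinv
  have hcol : ∀ j : Fin 8, 4 ≤ j.val → j.val < 7 → val8 w j 3 = 0 := by
    intro j hj hj'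
    have e := hlow' 7 ⟨j.val - 4, by omega⟩ (by simp) (by simp; omega)
    rw [val8_inv_eq] at e
    fin_cases j <;> simp at hj hj' <;> simpa [G8, Matrix.mul_apply, Fin.sum_univ_eight] using e
  have hq : val8 w 3 3 * val8 w 7 3 = 0 := by
    have e := (mem_O8_iff _).1 w.2 (Pi.single 3 1)
    change q8 (val8 w *ᵥ Pi.single 3 1) = _ at e
    rw [mulVec_single_one] at e
    simpa [q8, hcol 4 (by simp) (by simp), hcol 5 (by simp) (by simp), hcol 6 (by simp) (by simp)] using e
  have h73 : val8 w 7 3 = 0 := by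
    rcases mul_eq_zero.1 hq with h33 | h73
    · exfalso
      have hC : blC (val8 (rElt * w)) = 0 := by
        rw [map_mul, val_rElt]
        ext i k
        change (rMat * val8 w) ⟨i.val + 4, by omega⟩ (Fin.castLE (by norm_num) k) = 0
        have hrow : ∀ j : Fin 8, (rMat * val8 w) j (Fin.castLE (by norm_num) k) =
            val8 w (Equiv.swap 3 7 j) (Fin.castLE (by norm_num) k) := fun j => by
          fin_cases j <;> simp [rMat, Matrix.mul_apply, Fin.sum_univ_eight, Equiv.swap_apply_def]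
        rw [hrow]
        by_cases hk : k.val < 3
        · exact hlow _ _ (by fin_cases i <;> simp [Equiv.swap_apply_def]) hk
        · obtain rfl : k = 3 := Fin.ext (by simp; omega)
          by_cases hi : i.val < 3
          · rw [Equiv.swap_apply_of_ne_of_ne (by simp [Fin.ext_iff]) (by simp [Fin.ext_iff]; omega)]
            exact hcol ⟨i.val + 4, by omega⟩ (by simp) (by simp; omega)
          · obtain rfl : i = 3 := Fin.ext (by simp; omega)
            exact h33
      have := det_val8_of_blC hC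
      rw [map_mul, det_mul, det_W8 hw, mul_one, val_rElt, det_rMat] at this
      exact absurd this (by decide)
    · exact h73
  have hC : blC (val8 w) = 0 := by
    ext i k
    change val8 w ⟨i.val + 4, by omega⟩ (Fin.castLE (by norm_num) k) = 0
    by_cases hk : k.val < 3
    · exact hlow _ _ (by simp) hk
    · obtain rfl : k = 3 := Fin.ext (by simp; omega)
      by_cases hi : i.val < 3
      · exact hcol ⟨i.val + 4, by omega⟩ (by simp) (by simp; omega)
      · obtain rfl : i = 3 := Fin.ext (by simp; omega)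
        exact h73
  obtain ⟨hA, hB, -, hD⟩ := blk_inj (eq_blocks h)
  obtain ⟨hc, hXA, hXC, hXD, x11, x22, x33, x13, x23, x31, x32, x21⟩ := hX
  obtain ⟨hc', hYA, hYC, hYD, -⟩ := hY
  rw [hXC, hC, hXA, hYA, mul_zero, mul_zero, add_zero, add_zero] at hA
  rw [hC, hXD, hYC, hYD, zero_mul, zero_mul, zero_add, zero_add] at hD
  rw [hXD, hYA] at hB
  set A := blA (val8 w) with hAdef
  set D := blD (val8 w)
  set B := blB (val8 w)
  have hAD : Aᵀ * D = 1 := gram_blk_of_blC hC
  have hDA : D * Aᵀ = 1 := mul_eq_one_comm.1 hAD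
  have hXDA : uniDual (cMat c) * Aᵀ = Aᵀ * uniDual (cMat c') := by
    have := congrArg (fun M => Aᵀ * M * Aᵀ) hD
    simp only [← mul_assoc, hAD, one_mul] at this
    rwa [mul_assoc (Aᵀ * uniDual (cMat c')), hDA, mul_one] at this
  have a30 : A 3 0 = 0 := hlow 3 0 (by simp) (by simp)
  have a31 : A 3 1 = 0 := hlow 3 1 (by simp) (by simp)
  have a32 : A 3 2 = 0 := hlow 3 2 (by simp) (by simp)
  have eA := fun i k => congrFun (congrFun hA i) k
  have a10 : A 1 0 = 0 := by
    have e := eA 1 3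
    simp [Matrix.mul_apply, Fin.sum_univ_four, uniMat, cMat] at e
    exact e.resolve_right hc
  have a20 : A 2 0 = 0 := by
    have e := eA 2 3
    simp [Matrix.mul_apply, Fin.sum_univ_four, uniMat, cMat] at e
    exact e.resolve_right hc
  have e03 : A 0 0 * c = c' * A 3 3 := by
    have e := eA 0 3
    simp [Matrix.mul_apply, Fin.sum_univ_four, uniMat, cMat] at e
    linear_combination e
  have hdet := det_blA_of_mem hw hC
  rw [← hAdef] at hdet
  simp [Matrix.det_succ_row_zero, Fin.sum_univ_succ, Fin.succAbove, a10, a20, a30, a31, a32] at hdet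
  -- the middle entry
  have hB' : A * blB X * Aᵀ + B * Aᵀ * uniDual (cMat c') = uniMat (cMat c') * (B * Aᵀ) + blB Y := by
    have := congrArg (· * Aᵀ) hB
    simp only [add_mul] at this
    rwa [mul_assoc B (uniDual (cMat c)), hXDA, ← mul_assoc B, mul_assoc (uniMat _) B, mul_assoc (blB Y) D, hDA,
      mul_one] at this
  have e12 : blB Y 1 2 = (A 1 1 * A 2 2 - A 1 2 * A 2 1) * blB X 1 2 := by
    have e := congrFun (congrFun hB' 1) 2
    simp only [Matrix.add_apply] at e
    generalize B * Aᵀ = T at e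
    simp [Matrix.mul_apply, Fin.sum_univ_four, uniMat, uniDual, cMat, a10, a20, x11, x22, x33, x13, x23, x31, x32,
      x21] at e
    linear_combination -e
  have key : ∀ p q m x c c' y : ZMod 3, c ≠ 0 → p * c = c' * q → p * (m * q) = 1 → y = m * x → c' * y = c * x := by
    decide +kernel
  refine key (A 0 0) (A 3 3) (A 1 1 * A 2 2 - A 1 2 * A 2 1) _ c c' _ hc e03 ?_ e12
  linear_combination hdet

theorem not_conjTo_P {w : O8} (hw : w ∈ W8) :
    (w * repElt 5 ≠ repElt 6 * w) ∧ (w * repElt 5 ≠ repElt 6 ^ 2 * w) := by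
  obtain ⟨-, -, p5, -⟩ := shapeP_facts 5 (Or.inl rfl)
  obtain ⟨-, -, p6, p6'⟩ := shapeP_facts 6 (Or.inr rfl)
  constructor <;> intro h <;> have h' := congrArg val8 h <;>
    simp only [map_mul, map_pow, val_repElt, pow_two] at h'
  · have := pf4_eq_of_conj hw (shapeP_rep (Or.inl rfl)).1 (shapeP_rep (Or.inr rfl)).1 h'
    rw [p5, p6] at this
    exact absurd this (by decide)
  · have := pf4_eq_of_conj hw (shapeP_rep (Or.inl rfl)).1 (shapeP_rep (Or.inr rfl)).2 h'
    rw [p5, p6'] at this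
    exact absurd this (by decide)

theorem repMat_reflect : rMat * repMat 5 * rMat = repMat 7 ∧ rMat * repMat 6 * rMat = repMat 8 := by
  decide +kernel

theorem repElt_reflect : rElt * repElt 5 * rElt = repElt 7 ∧ rElt * repElt 6 * rElt = repElt 8 := by
  constructor <;> refine val8_injective ?_ <;> simp only [map_mul, val_rElt, val_repElt]
  exacts [repMat_reflect.1, repMat_reflect.2]

theorem not_conjTo_family {w : O8} (hw : w ∈ W8) {i j : Fin 13} (hi : i = 5 ∨ i = 6) (hj : j = 5 ∨ j = 6) :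
    w * repElt i ≠ rElt * repElt j * rElt * w ∧ w * repElt i ≠ (rElt * repElt j * rElt) ^ 2 * w := by
  have hsq : (rElt * repElt j * rElt) ^ 2 = rElt * repElt j ^ 2 * rElt := by
    simp only [pow_two, mul_assoc, ← mul_assoc rElt rElt, rElt_sq, one_mul]
  constructor <;> intro h
  · refine not_rElt_mul_of_shapeP hw (shapeP_rep hi).1 (shapeP_rep hj).1 ?_
    rw [← val_repElt i, ← val_repElt j, ← map_mul, ← map_mul]
    congr 1
    calc rElt * w * repElt i = rElt * (rElt * repElt j * rElt * w) := by rw [mul_assoc, h]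
      _ = _ := by simp only [← mul_assoc, rElt_sq, one_mul]
  · refine not_rElt_mul_of_shapeP hw (shapeP_rep hi).1 (shapeP_rep hj).2 ?_
    rw [← val_repElt i, ← val_repElt j, ← map_mul, ← pow_two, ← map_pow, ← map_mul]
    congr 1
    calc rElt * w * repElt i = rElt * ((rElt * repElt j * rElt) ^ 2 * w) := by rw [mul_assoc, h]
      _ = _ := by rw [hsq]; simp only [← mul_assoc, rElt_sq, one_mul]

theorem not_conjTo_C {w : O8} (hw : w ∈ W8) {i j : Fin 13} (hi : i = 9 ∨ i = 11) (hj : j = 10 ∨ j = 12) :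
    w * repElt i ≠ repElt j * w ∧ w * repElt i ≠ repElt j ^ 2 * w := by
  have hi9 : 9 ≤ i.val := by rcases hi with rfl | rfl <;> simp
  have hj9 : 9 ≤ j.val := by rcases hj with rfl | rfl <;> simp
  obtain ⟨si, -, oi, -⟩ := shapeC_facts i hi9
  obtain ⟨sj, sj', oj, oj'⟩ := shapeC_facts j hj9
  have hjn : ¬ (j = 9 ∨ j = 11) := by rcases hj with rfl | rfl <;> decide
  rw [if_pos hi] at oi
  rw [if_neg hjn] at oj oj'
  constructor <;> intro h <;> have h' := congrArg val8 h <;>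
    simp only [map_mul, map_pow, val_repElt, pow_two] at h'
  · have := orient_eq_of_conj hw si sj (fun v => fix_singular hi9) (fun v => fix_singular hj9) h'
    rw [oi, oj] at this
    exact absurd this (by decide)
  · have := orient_eq_of_conj hw si sj' (fun v => fix_singular hi9)
      (fun v hv => fix_singular hj9 ((sq_fix_iff (repMat_facts j).2.1 v).1 hv)) h'
    rw [oi, oj'] at this
    exact absurd this (by decide)

/-- The representatives generate pairwise non-conjugate subgroups. -/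
theorem eq_of_conjTo {i j : Fin 13} (h : ConjTo W8 j (repElt i)) : i = j := by
  -- symmetry
  have symm : ∀ {i j : Fin 13}, ConjTo W8 j (repElt i) → ConjTo W8 i (repElt j) := by
    rintro i j ⟨w, hw, h | h⟩
    · exact ⟨w⁻¹, inv_mem hw, Or.inl (by rw [← h]; group)⟩
    · refine ⟨w⁻¹, inv_mem hw, Or.inr ?_⟩
      have e : repElt j = w * repElt i ^ 2 * w⁻¹ := by
        rw [← conj_pow, h, ← pow_mul, show 2 * 2 = 3 + 1 by norm_num, pow_add, repElt_cube, one_mul, pow_one]
      rw [e]; group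
  have refl7 : ∀ {i j : Fin 13}, ConjTo W8 j (repElt i) → ∀ i' j',
      rElt * repElt i' * rElt = repElt i → rElt * repElt j' * rElt = repElt j → ConjTo W8 j' (repElt i') := by
    rintro i j ⟨w, hw, h⟩ i' j' hi hj
    refine ⟨rElt * w * rElt⁻¹, Subgroup.Normal.conj_mem inferInstance w hw rElt, ?_⟩
    have ri : rElt⁻¹ = rElt := inv_eq_of_mul_eq_one_right rElt_sq
    have e : rElt * w * rElt⁻¹ * repElt i' * (rElt * w * rElt⁻¹)⁻¹ = rElt * (w * repElt i * w⁻¹) * rElt := by
      rw [← hi, _root_.mul_inv_rev, _root_.mul_inv_rev, inv_inv, ri]; simp only [mul_assoc]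
    have hjp : ∀ x : O8, rElt * (rElt * x * rElt) * rElt = x := fun x => by
      rw [← mul_assoc, ← mul_assoc, rElt_sq, one_mul, mul_assoc, rElt_sq, mul_one]
    rw [e]
    rcases h with h | h
    · exact Or.inl (by rw [h, ← hj, hjp])
    · refine Or.inr ?_
      rw [h, ← hj, pow_two, pow_two]
      simp only [mul_assoc, ← mul_assoc rElt rElt, rElt_sq, one_mul, mul_one]
  have hfw : fixW (repMat i) = fixW (repMat j) := by
    obtain ⟨w, -, h | h⟩ := h <;> have h' := congrArg val8 (mul_inv_eq_iff_eq_mul.1 h) <;>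
      simp only [map_mul, map_pow, val_repElt, pow_two] at h'
    · exact fixW_eq_of_conj h'
    · rw [fixW_eq_of_conj h', fixW_sq (repMat_facts j).2.1]
  rw [fixW_repMat, fixW_repMat] at hfw
  have hcases : ∀ i j : Fin 13, fixVals.getD i.val 0 = fixVals.getD j.val 0 →
      i = j ∨ (i = 5 ∧ j = 6) ∨ (i = 6 ∧ j = 5) ∨ (i = 7 ∧ j = 8) ∨ (i = 8 ∧ j = 7) ∨
      ((i = 5 ∨ i = 6) ∧ (j = 7 ∨ j = 8)) ∨ ((j = 5 ∨ j = 6) ∧ (i = 7 ∨ i = 8)) ∨
      ((i = 9 ∨ i = 11) ∧ (j = 10 ∨ j = 12)) ∨ ((j = 9 ∨ j = 11) ∧ (i = 10 ∨ i = 12)) := by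
    decide +kernel
  have n56 : ¬ ConjTo W8 6 (repElt 5) := fun ⟨w, hw, h⟩ => h.elim
    (fun h => (not_conjTo_P hw).1 (mul_inv_eq_iff_eq_mul.1 h)) (fun h => (not_conjTo_P hw).2 (mul_inv_eq_iff_eq_mul.1 h))
  have n78 : ¬ ConjTo W8 8 (repElt 7) := fun h => n56 (refl7 h 5 6 repElt_reflect.1 repElt_reflect.2)
  have nfam : ∀ i j : Fin 13, (i = 5 ∨ i = 6) → (j = 7 ∨ j = 8) → ¬ ConjTo W8 j (repElt i) := by
    rintro i j hi hj ⟨w, hw, h⟩
    obtain ⟨j', hj', e⟩ : ∃ j' : Fin 13, (j' = 5 ∨ j' = 6) ∧ rElt * repElt j' * rElt = repElt j := by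
      rcases hj with rfl | rfl
      · exact ⟨5, Or.inl rfl, repElt_reflect.1⟩
      · exact ⟨6, Or.inr rfl, repElt_reflect.2⟩
    rw [← e] at h
    exact h.elim (fun h => (not_conjTo_family hw hi hj').1 (mul_inv_eq_iff_eq_mul.1 h))
      (fun h => (not_conjTo_family hw hi hj').2 (mul_inv_eq_iff_eq_mul.1 h))
  have nC : ∀ i j : Fin 13, (i = 9 ∨ i = 11) → (j = 10 ∨ j = 12) → ¬ ConjTo W8 j (repElt i) := by
    rintro i j hi hj ⟨w, hw, h⟩
    exact h.elim (fun h => (not_conjTo_C hw hi hj).1 (mul_inv_eq_iff_eq_mul.1 h))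
      (fun h => (not_conjTo_C hw hi hj).2 (mul_inv_eq_iff_eq_mul.1 h))
  rcases hcases i j hfw with e | ⟨rfl, rfl⟩ | ⟨rfl, rfl⟩ | ⟨rfl, rfl⟩ | ⟨rfl, rfl⟩ | ⟨hi, hj⟩ | ⟨hj, hi⟩ |
    ⟨hi, hj⟩ | ⟨hj, hi⟩
  · exact e
  · exact absurd h n56
  · exact absurd (symm h) n56
  · exact absurd h n78
  · exact absurd (symm h) n78
  · exact absurd h (nfam i j hi hj)
  · exact absurd (symm h) (nfam j i hj hi)
  · exact absurd h (nC i j hi hj)
  · exact absurd (symm h) (nC j i hj hi)

end CfsgLib.SmallGroups.Omega8Three
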