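import Cfsg.Agent.Lib.SmallGroups.Omega8Three.Fusion

/-!
Counts of fixed vectors of the representatives.
-/

set_option autoImplicit false

namespace CfsgLib.SmallGroups.Omega8Three

open Matrix

/-- The weight of a value of the form. -/
def fixWeight (c : ZMod 3) : ℕ := if c = 0 then 1 else if c = 1 then 400 else 0

/-- The weighted number of fixed vectors. -/
def fixW (M : M8) : ℕ := ∑ v : Fin 8 → ZMod 3, if M *ᵥ v = v then fixWeight (q8 v) else 0

theorem fixW_eq_of_conj {g : O8} {M M' : M8} (h : val8 g * M = M' * val8 g) : fixW M = fixW M' := by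
  unfold fixW
  refine Fintype.sum_equiv ⟨fun v => val8 g *ᵥ v, fun v => val8 g⁻¹ *ᵥ v,
    fun v => by simp only [mulVec_mulVec, val8_inv_mul, one_mulVec],
    fun v => by simp only [mulVec_mulVec, val8_mul_inv, one_mulVec]⟩ _ _ fun v => ?_
  simp only [Equiv.coe_fn_mk]
  have hq : q8 (val8 g *ᵥ v) = q8 v := (mem_O8_iff _).1 g.2 v
  have hiff : M' *ᵥ (val8 g *ᵥ v) = val8 g *ᵥ v ↔ M *ᵥ v = v := by
    rw [mulVec_mulVec, ← h, ← mulVec_mulVec]
    exact ⟨fun e => by simpa [mulVec_mulVec, ← mul_assoc, val8_inv_mul] using congrArg (val8 g⁻¹ *ᵥ ·) e,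
      fun e => by rw [e]⟩
  simp only [hq, hiff]

theorem sq_fix_iff {M : M8} (h3 : M * M * M = 1) (v : Fin 8 → ZMod 3) : (M * M) *ᵥ v = v ↔ M *ᵥ v = v := by
  refine ⟨fun e => ?_, fun e => by rw [← mulVec_mulVec, e, e]⟩
  calc M *ᵥ v = M *ᵥ ((M * M) *ᵥ v) := by rw [e]
    _ = v := by rw [mulVec_mulVec, ← mul_assoc, h3, one_mulVec]

theorem fixW_sq {M : M8} (h3 : M * M * M = 1) : fixW (M * M) = fixW M := by
  unfold fixW
  exact Finset.sum_congr rfl fun v _ => by simp only [sq_fix_iff h3]

/-- The vector with a given index. -/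
def vecOf (i : Fin 6561) : Fin 8 → ZMod 3 := fun j => ((i.val / 3 ^ j.val : ℕ) : ZMod 3)

/-- The code of a vector. -/
def encV (v : Fin 8 → ZMod 3) : ℕ := encL (List.ofFn fun k => (v k).val)

/-- The index of a vector. -/
def idxOf (v : Fin 8 → ZMod 3) : Fin 6561 :=
  ⟨(v 0).val + 3 * (v 1).val + 9 * (v 2).val + 27 * (v 3).val + 81 * (v 4).val + 243 * (v 5).val +
    729 * (v 6).val + 2187 * (v 7).val, by
    have := fun k => ZMod.val_lt (v k)
    have h0 := this 0; have h1 := this 1; have h2 := this 2; have h3 := this 3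
    have h4 := this 4; have h5 := this 5; have h6 := this 6; have h7 := this 7
    omega⟩

theorem vecOf_idxOf (v : Fin 8 → ZMod 3) : vecOf (idxOf v) = v := by
  have := fun k => ZMod.val_lt (v k)
  have h0 := this 0; have h1 := this 1; have h2 := this 2; have h3 := this 3
  have h4 := this 4; have h5 := this 5; have h6 := this 6; have h7 := this 7
  ext k
  apply ZMod.val_injective
  simp only [vecOf, idxOf, ZMod.val_natCast]
  fin_cases k <;> simp <;> omega

theorem vecOf_bijective : Function.Bijective vecOf :=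
  (Fintype.bijective_iff_surjective_and_card _).2 ⟨fun v => ⟨idxOf v, vecOf_idxOf v⟩, by simp⟩

theorem encV_inj {u v : Fin 8 → ZMod 3} (h : encV u = encV v) : u = v := by
  have := encL_inj (fun a ha => by obtain ⟨j, rfl⟩ := List.mem_ofFn.1 ha; exact val_lt_lane _)
    (fun a ha => by obtain ⟨j, rfl⟩ := List.mem_ofFn.1 ha; exact val_lt_lane _) (by simp) h
  exact funext fun k => ZMod.val_injective 3 (congrFun (List.ofFn_inj.1 this) k)

theorem red_rowMul_vec (u : Fin 8 → ZMod 3) (B : M8) :
    red (rowMul (encV u) (rows B)) = encV (u ᵥ* B) := by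
  have h := rows_mul (Matrix.of fun _ : Fin 8 => u) B
  simp only [rows, mulC, List.map_ofFn] at h
  exact (congrFun (List.ofFn_inj.1 h) 0).symm

/-- The code of the vector with a given index, by arithmetic on the index. -/
def encN (i : ℕ) : ℕ := encL (trits 8 i)

theorem encN_eq (i : Fin 6561) : encN i.val = encV (vecOf i) := by
  simp [encN, encV, vecOf, trits, List.ofFn_succ, Nat.div_div_eq_div_mul, ZMod.val_natCast]

/-- The value of the form on the vector with a given index. -/
def qN (i : ℕ) : ℕ :=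
  ((i % 3) * (i / 81 % 3) + (i / 3 % 3) * (i / 243 % 3) + (i / 9 % 3) * (i / 729 % 3) +
    (i / 27 % 3) * (i / 2187 % 3)) % 3

theorem qN_eq (i : Fin 6561) : q8 (vecOf i) = (qN i.val : ZMod 3) := by
  simp [q8, vecOf, qN, ZMod.natCast_mod]

/-- The weight of the vector with a given index. -/
def wN (i : ℕ) : ℕ := if qN i = 0 then 1 else if qN i = 1 then 400 else 0

theorem wN_eq (i : Fin 6561) : fixWeight (q8 (vecOf i)) = wN i.val := by
  have hlt : qN i.val < 3 := Nat.mod_lt _ (by norm_num)
  have h : ∀ n : ℕ, n < 3 → fixWeight (n : ZMod 3) = if n = 0 then 1 else if n = 1 then 400 else 0 := by decide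
  rw [qN_eq, wN, h _ hlt]

/-- The fixed vector test. -/
def fixedC (Bt : List ℕ) (i : ℕ) : Bool :=
  let e := encN i
  red (rowMul e Bt) == e

theorem fixedC_iff (M : M8) (i : Fin 6561) : fixedC (rows Mᵀ) i.val = true ↔ M *ᵥ vecOf i = vecOf i := by
  rw [fixedC, beq_iff_eq, encN_eq, red_rowMul_vec, vecMul_transpose]
  exact ⟨encV_inj, fun h => by rw [h]⟩

/-- The weighted count by lists. -/
def fixC (Bt : List ℕ) : ℕ :=
  ((List.range 6561).map fun i => if fixedC Bt i then wN i else 0).sum

theorem fixW_eq_fixC (M : M8) : fixW M = fixC (rows Mᵀ) := by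
  have e : fixC (rows Mᵀ) = ∑ i : Fin 6561, if fixedC (rows Mᵀ) i.val then wN i.val else 0 := by
    rw [Fin.sum_univ_eq_sum_range fun i => if fixedC (rows Mᵀ) i then wN i else 0]
    rfl
  rw [e, fixW]
  refine (Fintype.sum_bijective vecOf vecOf_bijective _ _ fun i => ?_).symm
  by_cases h : M *ᵥ vecOf i = vecOf i
  · rw [if_pos h, if_pos ((fixedC_iff M i).2 h), wN_eq]
  · rw [if_neg h, if_neg (fun e => h ((fixedC_iff M i).1 e))]

/-- The values of the count. -/
def fixVals : List ℕ := [86697, 108243, 86643, 7245, 14409, 81, 81, 81, 81, 27, 27, 21627, 21627]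

theorem fixC_reps : ∀ k : Fin 13, fixC (trC 8 (codeOf (repData.getD k.val []))) = fixVals.getD k.val 0 := by
  decide +kernel

theorem fixW_repMat (k : Fin 13) : fixW (repMat k) = fixVals.getD k.val 0 := by
  rw [fixW_eq_fixC, rows_transpose, repMat, rows_matOf, fixC_reps]

/-- Every fixed singular vector lies in the span of the first three basis vectors. -/
def checkR (Bt : List ℕ) : Bool :=
  (List.range 6561).all fun i => !(fixedC Bt i) || qN i != 0 || decide (i < 27)

theorem checkR_reps : ∀ k : Fin 13, 9 ≤ k.val → checkR (trC 8 (codeOf (repData.getD k.val []))) = true := by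
  decide +kernel

theorem fix_singular {k : Fin 13} (hk : 9 ≤ k.val) {v : Fin 8 → ZMod 3} (hf : repMat k *ᵥ v = v) (hq : q8 v = 0) :
    ∀ j : Fin 8, 3 ≤ j.val → v j = 0 := by
  obtain ⟨i, rfl⟩ := vecOf_bijective.2 v
  have h := checkR_reps k hk
  rw [checkR, List.all_eq_true] at h
  have h' := h i.val (List.mem_range.2 i.2)
  have hf' : fixedC (trC 8 (codeOf (repData.getD k.val []))) i.val = true := by
    rw [← rows_matOf, ← rows_transpose]
    exact (fixedC_iff _ i).2 hf
  simp only [Bool.or_eq_true, Bool.not_eq_true', bne_iff_ne, decide_eq_true_eq, hf'] at h'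
  rcases h' with (h' | h') | h'
  · exact absurd h' (by simp)
  · refine absurd ?_ h'
    rw [qN_eq] at hq
    have := congrArg ZMod.val hq
    rwa [ZMod.val_natCast, Nat.mod_eq_of_lt (show qN i.val < 3 from Nat.mod_lt _ (by norm_num)), ZMod.val_zero] at this
  · intro j hj
    have : (i.val : ℕ) / 3 ^ j.val = 0 := Nat.div_eq_of_lt (h'.trans_le
      (by simpa using Nat.pow_le_pow_right (n := 3) (by norm_num) hj))
    simp [vecOf, this]

end CfsgLib.SmallGroups.Omega8Three
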