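import Cfsg.Agent.Lib.SmallGroups.Omega8Three.Param

/-!
The stabiliser of a maximal totally singular subspace meets the commutator subgroup in elements of
determinant one on that subspace.
-/

set_option autoImplicit false

namespace CfsgLib.SmallGroups.Omega8Three

open Matrix
open scoped commutatorElement

/-- The Levi element of a pair of inverse matrices. -/
def levMat (A B : M4) : M8 := blk A 0 0 Bᵀ

theorem levMat_gram {A B : M4} (h : B * A = 1) : (levMat A B)ᵀ * G8 * levMat A B = G8 := by
  rw [levMat, gram_blk_iff]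
  exact ⟨by rw [← transpose_mul, h, transpose_one], by simp⟩

theorem levMat_mul (A B A' B' : M4) : levMat A B * levMat A' B' = levMat (A * A') (B' * B) := by
  simp [levMat, blk_mul]

/-- The Levi embedding. -/
noncomputable def lev : GL (Fin 4) (ZMod 3) →* O8 :=
  MonoidHom.mk' (fun A => (exists_of_gram (levMat_gram A.inv_mul)).choose) fun A B => val8_injective (by
    rw [map_mul, (exists_of_gram (levMat_gram (A * B).inv_mul)).choose_spec,
      (exists_of_gram (levMat_gram A.inv_mul)).choose_spec, (exists_of_gram (levMat_gram B.inv_mul)).choose_spec,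
      levMat_mul, Units.val_mul, _root_.mul_inv_rev, Units.val_mul])

theorem val_lev (A : GL (Fin 4) (ZMod 3)) : val8 (lev A) = levMat (A : M4) (A⁻¹ : GL (Fin 4) (ZMod 3)) :=
  (exists_of_gram (levMat_gram A.inv_mul)).choose_spec

/-- The sign change of one basis vector. -/
def flipMat (i : Fin 4) : M4 := Matrix.diagonal fun j => if j = i then 2 else 1

/-- The transposition of two basis vectors. -/
def swapMat (i : Fin 4) : M4 := Matrix.of fun j k => if k = Equiv.swap 0 i j then 1 else 0

theorem flip_facts : ∀ i : Fin 4, flipMat i * flipMat i = 1 ∧ swapMat i * swapMat i = 1 ∧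
    swapMat i * flipMat 0 * swapMat i = flipMat i := by
  decide +kernel

/-- The flips needed for a diagonal matrix. -/
def flipList (D : Fin 4 → ZMod 3) : List (Fin 4) := (List.finRange 4).filter fun i => D i = 2

theorem diag_eq_prod : ∀ D : Fin 4 → ZMod 3, (∀ i, D i ≠ 0) →
    Matrix.diagonal D = ((flipList D).map flipMat).prod ∧
      (∏ i, D i = 1 ↔ (flipList D).length % 2 = 0) := by
  decide +kernel

theorem lev_flip_zero {A : GL (Fin 4) (ZMod 3)} (hA : (A : M4) = flipMat 0) : lev A = tElt := by
  have hi : (A⁻¹ : GL (Fin 4) (ZMod 3)) = A := inv_eq_of_mul_eq_one_right (Units.ext (by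
    rw [Units.val_mul, hA, (flip_facts 0).1, Units.val_one]))
  refine val8_injective ?_
  rw [val_lev, hi, hA, val_tElt]
  decide +kernel

/-- The Levi embedding modulo the commutator subgroup. -/
theorem lev_class (A : GL (Fin 4) (ZMod 3)) :
    ((QuotientGroup.mk' W8) (lev A)) =
      if (A : M4).det = 1 then 1 else QuotientGroup.mk' W8 tElt := by
  set π : O8 →* O8 ⧸ W8 := QuotientGroup.mk' W8 with hπ
  have hab : ∀ x y : O8, π (x * y) = π (y * x) := fun x y =>
    QuotientGroup.eq.2 (by
      rw [show (x * y)⁻¹ * (y * x) = ⁅y⁻¹, x⁻¹⁆ by simp [commutatorElement_def, mul_assoc]]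
      exact Subgroup.commutator_mem_commutator (Subgroup.mem_top _) (Subgroup.mem_top _))
  have ht : π tElt * π tElt = 1 := by rw [← map_mul, tElt_sq, map_one]
  suffices H : ∀ M : M4, M.det ≠ 0 → ∀ B : GL (Fin 4) (ZMod 3), (B : M4) = M →
      π (lev B) = if M.det = 1 then 1 else π tElt from H _ (GeneralLinearGroup.det_ne_zero A) A rfl
  intro M hM
  refine Matrix.diagonal_transvection_induction_of_det_ne_zero (fun M => ∀ B : GL (Fin 4) (ZMod 3),
    (B : M4) = M → π (lev B) = if M.det = 1 then 1 else π tElt) M hM ?_ ?_ ?_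
  · intro D hD B hB
    rw [det_diagonal] at hD ⊢
    obtain ⟨hprod, hiff⟩ := diag_eq_prod D fun i hi => hD (Finset.prod_eq_zero (Finset.mem_univ i) hi)
    let F : Fin 4 → GL (Fin 4) (ZMod 3) := fun i => ⟨flipMat i, flipMat i, (flip_facts i).1, (flip_facts i).1⟩
    let P : Fin 4 → GL (Fin 4) (ZMod 3) := fun i => ⟨swapMat i, swapMat i, (flip_facts i).2.1, (flip_facts i).2.1⟩
    have hFi : ∀ i, π (lev (F i)) = π tElt := by
      intro i
      have e : F i = P i * F 0 * P i := Units.ext (flip_facts i).2.2.symm
      have hP : P i * P i = 1 := Units.ext (flip_facts i).2.1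
      rw [e, map_mul, hab, ← map_mul, ← mul_assoc, hP, one_mul, lev_flip_zero rfl]
    have hBF : B = ((flipList D).map F).prod := Units.ext (by
      rw [hB, hprod, ← Units.coeHom_apply, map_list_prod, List.map_map]
      rfl)
    have hl : ∀ l : List (Fin 4), π (lev (l.map F).prod) = if l.length % 2 = 0 then 1 else π tElt := by
      intro l
      induction l with
      | nil => simp
      | cons i l ih =>
        rw [List.map_cons, List.prod_cons, map_mul, map_mul, hFi, ih, List.length_cons]
        by_cases h : l.length % 2 = 0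
        · rw [if_pos h, if_neg (by omega), mul_one]
        · rw [if_neg h, if_pos (by omega), ht]
    rw [hBF, hl]
    simp only [← hiff]
  · intro T B hB
    rw [TransvectionStruct.det, if_pos rfl]
    refine (QuotientGroup.eq_one_iff _).2 (mem_W8_of_pow_three (k := 1) ?_)
    rw [← map_pow, pow_one, show B ^ 3 = 1 from Units.ext ?_, map_one]
    rw [Units.val_pow_eq_pow_val, hB, pow_succ, pow_two, TransvectionStruct.toMatrix,
      transvection_mul_transvection_same _ _ T.hij, transvection_mul_transvection_same _ _ T.hij,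
      show T.c + T.c + T.c = 0 by
        have h3 : (3 : ZMod 3) = 0 := rfl
        linear_combination T.c * h3, transvection_zero, Units.val_one]
  · intro X Y hX hY ihX ihY B hB
    let X' := GeneralLinearGroup.mkOfDetNeZero X hX
    let Y' := GeneralLinearGroup.mkOfDetNeZero Y hY
    have hXY : B = X' * Y' := Units.ext hB
    rw [hXY, map_mul, map_mul, ihX X' rfl, ihY Y' rfl, det_mul]
    have hx : ∀ x : ZMod 3, x ≠ 0 → x = 1 ∨ x = 2 := by decide
    rcases hx _ hX with h1 | h1 <;> rcases hx _ hY with h2 | h2 <;> rw [h1, h2]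
    · simp
    · rw [if_pos rfl, if_neg (by decide), if_neg (by decide), one_mul]
    · rw [if_neg (by decide), if_pos rfl, if_neg (by decide), mul_one]
    · rw [if_neg (by decide), if_pos (by decide), ht]

theorem pow_mem_U8 {g : O8} (hg : g ∈ U8) : g ^ 3 ^ 12 = 1 := by
  have := congrArg Subtype.val (pow_card_eq_one' (x := (⟨g, hg⟩ : U8)))
  rwa [card_U8, Subgroup.coe_pow, Subgroup.coe_one] at this

theorem gram_blk_of_blC {g : O8} (hC : blC (val8 g) = 0) :
    (blA (val8 g))ᵀ * blD (val8 g) = 1 := by
  have h := val8_mem g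
  rw [← blk_eta (val8 g), hC, gram_blk_iff] at h
  exact h.1

theorem det_val8_of_blC {g : O8} (hC : blC (val8 g) = 0) : (val8 g).det = 1 := by
  conv_lhs => rw [← blk_eta (val8 g), hC, blk_eq, det_submatrix_equiv_self, det_fromBlocks_zero₂₁]
  rw [← det_transpose (blA _), ← det_mul, gram_blk_of_blC hC, det_one]

theorem det_blA_of_mem {w : O8} (hw : w ∈ W8) (hC : blC (val8 w) = 0) : (blA (val8 w)).det = 1 := by
  have hAD := gram_blk_of_blC hC
  have hne : (blA (val8 w)).det ≠ 0 := by
    intro h0
    have := congrArg Matrix.det hAD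
    rw [det_mul, det_transpose, h0, zero_mul, det_one] at this
    exact zero_ne_one this
  set A := GeneralLinearGroup.mkOfDetNeZero (blA (val8 w)) hne with hA
  set h := (lev A)⁻¹ * w with hh
  have hU : h ∈ U8 := by
    rw [mem_U8, hh, ← map_inv, map_mul, val_lev, inv_inv, levMat, ← blk_eta (val8 w), hC, blk_mul]
    simp only [zero_mul, mul_zero, add_zero]
    refine ⟨?_, blC_blk _ _ _ _⟩
    rw [blA_blk, show blA (val8 w) = (A : M4) from rfl, Units.inv_mul]
    exact IsUni4.one
  have h1 : QuotientGroup.mk' W8 (lev A) = 1 := by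
    have hwh : w = lev A * h := by rw [hh, mul_inv_cancel_left]
    have e : QuotientGroup.mk' W8 w = 1 := (QuotientGroup.eq_one_iff _).2 hw
    have e2 : QuotientGroup.mk' W8 h = 1 := (QuotientGroup.eq_one_iff _).2
      (mem_W8_of_pow_three (pow_mem_U8 hU))
    rwa [hwh, map_mul, e2, mul_one] at e
  rw [lev_class] at h1
  by_contra hd
  rw [show blA (val8 w) = (A : M4) from rfl] at hd
  rw [if_neg hd] at h1
  exact tElt_notMem ((QuotientGroup.eq_one_iff _).1 h1)

end CfsgLib.SmallGroups.Omega8Three
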