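import Cfsg.Agent.Lib.SmallGroups.Omega8Three.Code

/-!
Conjugacy of unitriangular matrices of order three to four representatives.
-/

set_option autoImplicit false

namespace CfsgLib.SmallGroups.Omega8Three

def redData0 : List (Option (ℕ × List ℕ × List ℕ)) :=
  [some (0,[34,20,22,19],[57,63,30,16]),
   some (1,[13,27,8,60],[48,60,10,3]),
   some (1,[73,27,62,61],[63,42,71,3]),
   some (1,[42,54,46,29],[60,74,75,6]),
   some (1,[51,27,29,77],[21,64,49,3]),
   some (1,[17,27,26,51],[51,76,11,3]),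
   some (1,[32,54,46,64],[72,76,69,6]),
   some (1,[9,27,79,51],[69,59,1,3]),
   some (1,[40,27,75,50],[69,62,77,3]),
   some (1,[34,18,56,1],[27,20,6,72]),
   some (3,[79,72,54,55],[45,50,15,18]),
   some (3,[66,63,54,1],[27,7,21,18]),
   some (1,[22,36,11,18],[72,10,54,30]),
   some (3,[6,72,54,55],[45,2,15,18]),
   some (3,[39,9,54,28],[36,16,3,18]),
   some (1,[25,45,28,29],[45,59,78,72]),
   some (3,[44,72,54,55],[45,71,15,18]),
   some (3,[62,45,27,28],[45,56,15,9]),
   some (1,[14,18,56,36],[78,73,6,30]),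
   some (3,[52,63,27,29],[63,71,12,9]),
   some (3,[50,45,27,28],[45,52,15,9]),
   some (1,[33,63,28,72],[69,32,33,30]),
   some (3,[35,63,27,1],[27,65,12,9]),
   some (3,[39,18,27,29],[63,22,6,9]),
   some (1,[35,36,10,45],[66,23,33,60]),
   some (3,[23,45,54,56],[63,61,24,18]),
   some (3,[17,9,54,2],[54,32,3,18])]

def redData1 : List (Option (ℕ × List ℕ × List ℕ)) :=
  [some (1,[8,54,21,6],[29,54,72,6]),
   some (1,[16,54,38,71],[35,69,38,6]),
   some (1,[65,27,53,23],[79,69,74,3]),
   some (1,[56,54,25,32],[5,35,78,6]),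
   some (1,[76,27,46,32],[73,25,67,3]),
   some (1,[48,54,59,39],[80,59,55,6]),
   some (1,[50,27,53,17],[34,11,69,3]),
   some (1,[76,54,78,65],[50,31,74,6]),
   some (1,[34,54,47,42],[41,37,67,6]),
   some (2,[71,72,73,27],[15,47,60,27]),
   some (3,[24,72,54,65],[78,23,15,18]),
   some (3,[42,72,27,74],[57,8,24,9]),
   some (2,[12,36,13,63],[11,31,60,33]),
   some (3,[33,72,54,65],[78,20,15,18]),
   some (3,[12,9,54,74],[69,7,3,18]),
   some (2,[43,72,19,27],[69,68,60,27]),
   some (3,[80,72,54,38],[60,35,15,18]),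
   some (3,[79,18,27,47],[66,62,6,9]),
   some (2,[35,63,64,27],[15,50,30,27]),
   some (3,[76,18,54,38],[78,28,6,18]),
   some (3,[35,63,54,74],[78,32,21,18]),
   some (2,[39,45,59,18],[22,61,54,57]),
   some (3,[75,18,54,38],[78,25,6,18]),
   some (3,[8,36,54,10],[51,68,12,18]),
   some (2,[56,54,8,9],[5,25,27,6]),
   some (3,[40,45,54,38],[69,43,24,18]),
   some (3,[22,45,27,74],[66,31,15,9])]

def redData2 : List (Option (ℕ × List ℕ × List ℕ)) :=
  [some (1,[32,27,9,57],[35,30,9,3]),
   some (1,[58,54,37,70],[46,69,77,6]),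
   some (1,[4,54,76,79],[64,45,22,6]),
   some (1,[25,27,8,67],[62,49,39,3]),
   some (1,[44,27,41,75],[56,19,79,3]),
   some (1,[34,27,39,16],[65,67,32,3]),
   some (1,[51,27,43,68],[56,41,72,3]),
   some (1,[2,27,24,74],[2,50,61,3]),
   some (1,[24,54,65,69],[79,34,58,6]),
   some (2,[80,45,52,72],[76,70,30,33]),
   some (3,[71,72,54,37],[30,77,15,18]),
   some (3,[15,72,27,19],[51,26,24,9]),
   some (2,[23,63,33,72],[26,48,33,30]),
   some (3,[23,36,27,37],[33,46,21,9]),
   some (3,[42,45,27,65],[60,26,15,9]),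
   some (2,[49,36,51,45],[37,45,33,60]),
   some (3,[48,36,27,10],[42,13,21,9]),
   some (3,[50,36,54,11],[66,61,12,18]),
   some (2,[7,63,55,54],[63,65,57,54]),
   some (3,[76,45,54,20],[66,31,24,18]),
   some (3,[59,45,27,73],[51,34,15,9]),
   some (2,[10,54,48,45],[31,63,60,6]),
   some (3,[60,63,27,10],[51,20,12,9]),
   some (3,[57,45,27,19],[42,10,15,9]),
   some (2,[11,27,30,72],[62,15,60,3]),
   some (3,[23,72,54,20],[75,55,15,18]),
   some (3,[39,45,27,46],[33,13,15,9])]

def redData3 : List (Option (ℕ × List ℕ × List ℕ)) :=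
  [some (1,[62,18,69,54],[14,51,6,54]),
   some (3,[67,36,27,3],[79,27,21,9]),
   some (3,[80,45,27,3],[68,27,15,9]),
   some (2,[29,18,57,27],[29,36,6,27]),
   some (3,[79,36,27,75],[34,30,21,9]),
   some (3,[41,18,27,24],[65,57,6,9]),
   some (2,[14,72,80,45],[67,38,30,57]),
   some (3,[46,63,27,12],[4,51,12,9]),
   some (3,[71,18,27,48],[56,51,6,9]),
   some (1,[51,18,79,25],[74,50,6,45]),
   some (3,[76,72,54,7],[59,32,15,18]),
   some (3,[51,45,27,32],[68,5,15,9]),
   some (2,[57,36,53,63],[50,34,60,33]),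
   some (3,[19,63,27,43],[13,61,12,9]),
   some (3,[42,45,27,25],[32,26,15,9]),
   some (2,[22,72,48,63],[49,36,57,30]),
   some (3,[64,36,27,68],[25,40,21,9]),
   some (3,[76,18,27,43],[56,44,6,9]),
   some (1,[60,9,4,36],[43,59,3,33]),
   some (3,[61,18,54,62],[29,37,6,18]),
   some (3,[55,9,54,4],[19,38,3,18]),
   some (2,[11,18,78,63],[8,51,6,60]),
   some (3,[46,63,27,22],[4,38,12,9]),
   some (3,[39,18,27,53],[74,22,6,9]),
   some (2,[42,36,43,45],[11,5,33,60]),
   some (3,[20,72,54,26],[23,55,15,18]),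
   some (3,[70,18,27,71],[29,52,6,9])]

def redData4 : List (Option (ℕ × List ℕ × List ℕ)) :=
  [some (1,[61,36,66,27],[16,69,57,27]),
   some (3,[71,18,54,33],[53,72,6,18]),
   some (3,[58,36,54,6],[46,54,12,18]),
   some (2,[14,18,74,72],[45,49,6,57]),
   some (3,[35,45,54,42],[41,69,24,18]),
   some (3,[31,63,54,51],[40,60,21,18]),
   some (2,[37,36,58,9],[7,71,27,57]),
   some (3,[41,72,54,12],[47,48,15,18]),
   some (3,[25,9,54,21],[34,30,3,18]),
   some (2,[28,36,22,45],[31,14,33,60]),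
   some (3,[26,36,27,52],[64,34,21,9]),
   some (3,[44,36,54,16],[64,49,12,18]),
   some (1,[12,36,43,23],[49,43,75,36]),
   some (3,[76,45,54,32],[32,68,24,18]),
   some (3,[60,72,27,61],[29,20,24,9]),
   some (2,[43,54,11,72],[75,50,57,6]),
   some (3,[69,72,54,77],[74,26,15,18]),
   some (3,[71,63,54,52],[58,28,21,18]),
   some (2,[49,27,77,63],[17,50,30,3]),
   some (3,[64,63,27,44],[7,80,12,9]),
   some (3,[57,18,27,40],[41,10,6,9]),
   some (2,[59,9,51,63],[26,72,3,57]),
   some (3,[32,9,27,80],[31,50,3,9]),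
   some (3,[50,36,54,17],[37,32,12,18]),
   some (1,[41,36,17,9],[70,68,27,57]),
   some (3,[74,45,54,35],[23,61,24,18]),
   some (3,[73,63,54,31],[13,35,21,18])]

def redData5 : List (Option (ℕ × List ℕ × List ℕ)) :=
  [some (1,[80,45,12,54],[47,39,60,54]),
   some (3,[1,63,27,3],[1,27,12,9]),
   some (3,[31,63,54,33],[46,72,21,18]),
   some (2,[3,27,5,72],[19,1,60,3]),
   some (3,[13,36,27,15],[49,75,21,9]),
   some (3,[58,9,54,24],[49,60,3,18]),
   some (2,[5,18,64,63],[63,64,6,60]),
   some (3,[31,36,27,66],[58,51,21,9]),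
   some (3,[5,18,27,69],[80,78,6,9]),
   some (2,[69,18,7,54],[44,35,6,54]),
   some (3,[15,45,54,16],[29,26,24,18]),
   some (3,[47,72,27,79],[23,80,24,9]),
   some (2,[46,63,8,9],[4,26,27,33]),
   some (3,[2,45,54,25],[2,68,24,18]),
   some (3,[75,63,54,77],[55,13,21,18]),
   some (1,[66,63,59,32],[43,7,66,63]),
   some (3,[10,9,27,5],[7,34,3,9]),
   some (3,[15,18,27,61],[44,8,6,9]),
   some (2,[60,9,79,72],[14,32,3,60]),
   some (3,[5,36,27,26],[49,50,21,9]),
   some (3,[32,36,54,17],[34,44,12,18]),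
   some (1,[57,45,80,71],[23,67,63,66]),
   some (3,[68,9,27,31],[79,59,3,9]),
   some (3,[46,9,54,35],[13,71,3,18]),
   some (2,[5,9,42,36],[47,45,3,33]),
   some (3,[10,9,27,71],[7,80,3,9]),
   some (3,[33,36,54,80],[70,20,12,18])]

def redData6 : List (Option (ℕ × List ℕ × List ℕ)) :=
  [some (1,[49,18,21,30],[61,15,6,48]),
   some (3,[37,45,54,60],[22,63,24,18]),
   some (3,[8,9,54,6],[29,54,3,18]),
   some (2,[58,45,59,36],[11,80,57,60]),
   some (3,[13,72,54,75],[79,33,15,18]),
   some (3,[28,18,27,51],[19,66,6,9]),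
   some (2,[62,36,57,54],[74,63,30,54]),
   some (3,[41,9,27,12],[38,33,3,9]),
   some (3,[50,9,54,48],[29,39,3,18]),
   some (1,[77,18,62,67],[58,14,6,39]),
   some (3,[12,36,27,62],[68,16,21,9]),
   some (3,[56,9,54,31],[11,28,3,18]),
   some (2,[19,18,21,36],[7,15,6,30]),
   some (3,[52,36,27,44],[50,37,21,9]),
   some (3,[24,18,27,53],[64,5,6,9]),
   some (2,[75,63,35,27],[80,58,30,27]),
   some (3,[29,9,27,53],[11,61,3,9]),
   some (3,[42,18,27,71],[64,17,6,9]),
   some (1,[66,18,77,41],[25,70,6,66]),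
   some (3,[48,72,54,34],[34,25,15,18]),
   some (3,[78,36,54,34],[44,8,12,18]),
   some (2,[41,27,44,72],[64,11,60,3]),
   some (3,[64,45,54,23],[4,46,24,18]),
   some (3,[8,72,27,14],[40,79,24,9]),
   some (2,[3,72,34,27],[64,1,60,27]),
   some (3,[44,72,54,79],[61,28,15,18]),
   some (3,[1,18,27,77],[1,43,6,9])]

def redData7 : List (Option (ℕ × List ℕ × List ℕ)) :=
  [some (1,[10,45,78,69],[46,60,63,66]),
   some (3,[2,63,27,6],[2,54,12,9]),
   some (3,[14,36,54,60],[77,63,12,18]),
   some (2,[74,63,17,36],[56,25,60,57]),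
   some (3,[47,36,27,42],[26,57,21,9]),
   some (3,[5,9,54,39],[44,42,3,18]),
   some (2,[55,45,26,9],[31,53,27,30]),
   some (3,[13,45,54,78],[46,75,24,18]),
   some (3,[2,63,54,48],[2,30,21,18]),
   some (2,[73,45,61,36],[28,76,57,60]),
   some (3,[19,18,54,17],[7,56,6,18]),
   some (3,[68,45,27,26],[37,41,15,9]),
   some (2,[80,27,52,9],[25,64,27,3]),
   some (3,[43,36,27,26],[53,46,21,9]),
   some (3,[66,9,54,49],[53,25,3,18]),
   some (1,[70,63,44,35],[80,73,63,69]),
   some (3,[60,45,54,4],[46,11,24,18]),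
   some (3,[19,72,27,62],[25,59,24,9]),
   some (2,[80,72,10,45],[69,53,30,57]),
   some (3,[74,36,27,25],[8,68,21,9]),
   some (3,[4,36,54,43],[59,35,12,18]),
   some (1,[65,63,34,68],[5,29,36,42]),
   some (3,[21,18,54,34],[43,7,6,18]),
   some (3,[8,45,27,7],[55,28,15,9]),
   some (2,[2,63,30,72],[2,69,33,30]),
   some (3,[64,72,54,77],[13,37,15,18]),
   some (3,[49,36,54,41],[41,65,12,18])]

def redData8 : List (Option (ℕ × List ℕ × List ℕ)) :=
  [some (1,[28,72,30,24],[43,51,39,75]),
   some (3,[77,9,27,6],[80,54,3,9]),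
   some (3,[34,72,27,6],[73,54,24,9]),
   some (2,[35,9,1,72],[9,80,3,60]),
   some (3,[16,72,54,69],[64,78,15,18]),
   some (3,[1,72,27,78],[1,57,24,9]),
   some (2,[6,27,58,45],[13,2,57,3]),
   some (3,[41,36,27,12],[38,42,21,9]),
   some (3,[29,36,54,15],[20,66,12,18]),
   some (2,[73,72,33,18],[7,51,54,33]),
   some (3,[24,72,54,13],[28,23,15,18]),
   some (3,[15,72,27,44],[64,26,24,9]),
   some (1,[42,72,53,4],[31,8,39,75]),
   some (3,[73,45,54,58],[16,41,24,18]),
   some (3,[21,63,54,62],[80,22,21,18]),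
   some (2,[69,45,67,27],[16,8,33,27]),
   some (3,[43,36,27,22],[65,67,21,9]),
   some (3,[25,36,54,80],[47,43,12,18]),
   some (2,[12,18,67,63],[71,4,6,60]),
   some (3,[67,9,27,50],[44,56,3,9]),
   some (3,[57,18,27,79],[52,10,6,9]),
   some (2,[39,45,46,72],[15,28,30,33]),
   some (3,[11,63,27,79],[14,74,12,9]),
   some (3,[46,18,27,16],[25,76,6,9]),
   some (1,[64,72,27,34],[22,58,24,9]),
   some (3,[47,9,27,61],[17,62,3,9]),
   some (3,[44,45,27,34],[76,31,15,9])]

def redData9 : List (Option (ℕ × List ℕ × List ℕ)) :=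
  [some (1,[41,6,27,51],[74,6,66,9]),
   some (2,[45,54,80,60],[49,57,8,6]),
   some (2,[43,57,48,27],[37,30,75,27]),
   some (3,[80,60,54,18],[32,15,54,18]),
   some (3,[11,33,54,42],[35,24,33,18]),
   some (3,[65,60,54,12],[32,15,48,18]),
   some (3,[28,3,54,63],[10,3,45,18]),
   some (3,[22,30,54,12],[40,12,51,18]),
   some (3,[40,30,54,42],[67,12,48,18]),
   some (3,[7,21,9,45],[13,12,9,36]),
   none,
   none,
   some (3,[44,78,72,45],[14,15,36,63]),
   none,
   none,
   some (3,[19,3,63,18],[55,3,54,72]),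
   none,
   none,
   some (3,[25,12,18,27],[4,12,18,27]),
   none,
   none,
   some (3,[41,51,63,54],[35,24,63,54]),
   none,
   none,
   some (3,[53,42,36,54],[41,15,36,54]),
   none,
   none]

def redData10 : List (Option (ℕ × List ℕ × List ℕ)) :=
  [some (1,[76,30,15,42],[28,66,75,45]),
   some (2,[74,33,7,30],[66,57,74,60]),
   some (2,[8,60,50,6],[29,54,79,33]),
   some (3,[49,57,27,72],[61,12,72,9]),
   some (3,[58,57,27,75],[7,12,57,9]),
   some (3,[25,30,27,24],[55,21,69,9]),
   some (3,[22,3,54,45],[79,3,72,18]),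
   some (3,[64,57,54,66],[76,21,33,18]),
   some (3,[55,30,54,69],[19,12,30,18]),
   some (3,[53,78,18,27],[59,69,18,27]),
   none,
   none,
   some (3,[38,60,72,18],[20,69,54,45]),
   none,
   none,
   some (3,[76,12,63,72],[25,66,45,36]),
   none,
   none,
   some (3,[47,60,9,45],[29,78,9,36]),
   none,
   none,
   some (3,[49,75,45,72],[52,57,36,45]),
   none,
   none,
   some (3,[19,30,72,9],[28,39,27,72]),
   none,
   none]

def redData11 : List (Option (ℕ × List ℕ × List ℕ)) :=
  [some (1,[23,33,36,63],[62,51,72,45]),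
   some (2,[72,54,2,33],[18,60,5,6]),
   some (2,[75,27,34,57],[36,30,29,3]),
   some (3,[25,30,27,9],[49,21,27,9]),
   some (3,[64,3,27,15],[70,3,30,9]),
   some (3,[11,6,54,66],[50,6,48,18]),
   some (3,[49,30,54,63],[52,12,45,18]),
   some (3,[5,6,27,66],[8,6,39,9]),
   some (3,[31,30,54,69],[7,12,30,18]),
   some (3,[44,51,18,36],[14,51,18,36]),
   none,
   none,
   some (3,[47,33,72,27],[65,33,72,27]),
   none,
   none,
   some (3,[26,78,45,36],[77,60,63,72]),
   none,
   none,
   some (3,[74,33,9,45],[65,42,9,36]),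
   none,
   none,
   some (3,[11,33,63,54],[65,60,63,54]),
   none,
   none,
   some (3,[52,12,72,63],[76,48,63,36]),
   none,
   none]

def redData12 : List (Option (ℕ × List ℕ × List ℕ)) :=
  [some (1,[67,12,9,75],[64,21,9,66]),
   some (3,[31,12,27,57],[64,36,75,9]),
   some (3,[14,78,27,33],[26,63,42,9]),
   some (3,[10,12,27,63],[73,75,36,9]),
   some (3,[25,39,54,69],[13,42,60,18]),
   some (2,[58,39,52,12],[69,25,41,57]),
   some (3,[1,12,54,63],[1,66,45,18]),
   some (2,[62,51,61,39],[19,40,47,60]),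
   some (3,[29,24,54,21],[20,57,30,18]),
   some (3,[2,24,18,72],[2,15,18,63]),
   none,
   none,
   some (3,[65,24,72,54],[74,69,45,54]),
   none,
   none,
   some (3,[22,75,63,36],[52,30,72,63]),
   none,
   none,
   some (3,[76,3,18,27],[52,3,18,27]),
   none,
   none,
   some (3,[38,24,63,36],[29,42,72,63]),
   none,
   none,
   some (3,[44,33,36,18],[59,42,54,36]),
   none,
   none]

def redData13 : List (Option (ℕ × List ℕ × List ℕ)) :=
  [some (1,[61,39,48,15],[25,69,15,36]),
   some (3,[16,66,27,3],[79,27,66,9]),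
   some (3,[10,12,54,3],[34,27,57,18]),
   some (3,[2,78,54,18],[2,42,54,18]),
   some (3,[46,12,54,15],[70,33,60,18]),
   some (2,[64,12,79,39],[36,17,25,33]),
   some (3,[80,24,27,45],[23,51,63,9]),
   some (2,[76,66,36,27],[52,75,63,27]),
   some (3,[59,51,54,69],[41,30,75,18]),
   some (3,[11,78,18,27],[20,69,18,27]),
   none,
   none,
   some (3,[59,6,72,9],[44,6,27,72]),
   none,
   none,
   some (3,[58,21,63,9],[25,30,27,45]),
   none,
   none,
   some (3,[22,30,18,36],[34,75,18,36]),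
   none,
   none,
   some (3,[14,15,63,9],[62,33,27,45]),
   none,
   none,
   some (3,[19,39,72,45],[37,12,36,63]),
   none,
   none]

def redData14 : List (Option (ℕ × List ℕ × List ℕ)) :=
  [some (1,[47,51,6,39],[23,18,66,60]),
   some (3,[8,51,54,6],[29,54,51,18]),
   some (3,[73,12,54,30],[67,36,75,18]),
   some (3,[20,51,54,45],[38,33,72,18]),
   some (3,[73,39,54,15],[70,51,78,18]),
   some (2,[1,66,33,54],[1,72,12,54]),
   some (3,[10,66,54,45],[37,30,72,18]),
   some (2,[46,39,5,24],[68,77,16,30]),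
   some (3,[28,66,27,48],[19,60,42,9]),
   some (3,[70,57,9,36],[58,48,9,45]),
   none,
   none,
   some (3,[43,30,36,27],[76,57,63,27]),
   none,
   none,
   some (3,[34,3,63,27],[58,3,36,27]),
   none,
   none,
   some (3,[22,57,18,63],[34,75,18,72]),
   none,
   none,
   some (3,[64,66,45,18],[10,12,54,63]),
   none,
   none,
   some (3,[34,21,72,63],[31,66,63,36]),
   none,
   none]

def redData15 : List (Option (ℕ × List ℕ × List ℕ)) :=
  [some (1,[68,15,75,24],[68,30,33,24]),
   some (3,[37,48,54,33],[31,72,69,18]),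
   some (3,[58,21,27,3],[64,27,33,9]),
   some (3,[32,42,54,18],[71,78,54,18]),
   some (2,[34,75,18,54],[22,75,18,54]),
   some (3,[25,21,54,78],[64,51,48,18]),
   some (3,[65,15,27,9],[47,33,27,9]),
   some (3,[35,42,54,66],[35,75,60,18]),
   some (2,[13,48,58,75],[26,46,76,33]),
   some (3,[77,24,18,63],[35,15,18,72]),
   none,
   none,
   some (3,[7,66,36,27],[76,75,63,27]),
   none,
   none,
   some (3,[64,21,63,54],[19,66,63,54]),
   none,
   none,
   some (3,[10,21,18,36],[10,21,18,36]),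
   none,
   none,
   some (3,[70,57,45,36],[58,75,63,72]),
   none,
   none,
   some (3,[23,60,36,9],[26,51,27,63]),
   none,
   none]

def redData16 : List (Option (ℕ × List ℕ × List ℕ)) :=
  [some (1,[10,48,39,57],[16,66,21,39]),
   some (3,[56,69,27,30],[20,45,30,9]),
   some (3,[26,15,54,6],[62,54,57,18]),
   some (3,[59,15,54,72],[80,69,63,18]),
   some (2,[68,42,12,54],[38,48,78,54]),
   some (3,[43,75,54,51],[4,51,30,18]),
   some (3,[47,69,27,63],[56,33,36,9]),
   some (3,[52,48,27,12],[46,69,75,9]),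
   some (2,[29,69,52,21],[62,43,16,60]),
   some (3,[64,48,9,27],[46,66,9,27]),
   none,
   none,
   some (3,[71,33,72,54],[23,60,45,54]),
   none,
   none,
   some (3,[44,6,45,9],[68,6,27,36]),
   none,
   none,
   some (3,[37,48,18,27],[64,75,18,27]),
   none,
   none,
   some (3,[37,48,45,27],[37,21,45,27]),
   none,
   none,
   some (3,[19,48,72,9],[28,66,27,72]),
   none,
   none]

def redData17 : List (Option (ℕ × List ℕ × List ℕ)) :=
  [some (1,[31,75,36,15],[46,12,39,60]),
   some (3,[2,42,27,30],[2,45,39,9]),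
   some (3,[79,21,27,57],[61,36,42,9]),
   some (3,[13,21,27,9],[34,30,27,9]),
   some (2,[8,15,59,69],[67,52,46,57]),
   some (3,[22,48,54,66],[25,60,75,18]),
   some (3,[40,48,54,72],[70,75,63,18]),
   some (3,[67,75,27,66],[55,69,57,9]),
   some (2,[74,69,76,75],[63,74,26,30]),
   some (3,[43,66,9,54],[13,75,9,54]),
   none,
   none,
   some (3,[76,3,36,18],[16,3,54,36]),
   none,
   none,
   some (3,[22,30,63,72],[61,75,45,36]),
   none,
   none,
   some (3,[43,57,18,72],[13,66,18,63]),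
   none,
   none,
   some (3,[55,75,45,18],[64,39,54,63]),
   none,
   none,
   some (3,[67,39,72,9],[43,12,27,72]),
   none,
   none]

def redData18 : List (Option (ℕ × List ℕ × List ℕ)) :=
  [some (1,[20,3,33,51],[47,3,63,12]),
   some (2,[42,27,2,3],[18,27,34,3]),
   some (2,[62,3,19,33],[59,3,77,30]),
   some (3,[14,30,27,18],[77,21,54,9]),
   some (3,[23,3,27,69],[74,3,39,9]),
   some (3,[5,30,27,24],[23,21,69,9]),
   some (3,[70,33,27,9],[79,15,27,9]),
   some (3,[19,60,27,12],[40,24,39,9]),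
   some (3,[7,33,27,48],[16,15,78,9]),
   some (3,[40,15,18,72],[40,24,18,63]),
   none,
   none,
   some (3,[80,75,36,9],[17,12,27,63]),
   none,
   none,
   some (3,[35,48,63,9],[44,12,27,45]),
   none,
   none,
   some (3,[56,3,18,36],[74,3,18,36]),
   none,
   none,
   some (3,[25,69,63,36],[61,15,72,63]),
   none,
   none,
   some (3,[61,42,36,45],[61,15,45,72]),
   none,
   none]

def redData19 : List (Option (ℕ × List ℕ × List ℕ)) :=
  [some (1,[55,33,42,69],[46,51,15,45]),
   some (2,[80,30,29,57],[51,60,65,33]),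
   some (2,[17,30,36,54],[17,30,36,54]),
   some (3,[59,3,27,63],[23,3,36,9]),
   some (3,[11,3,27,21],[59,3,57,9]),
   some (3,[32,3,27,78],[14,3,78,9]),
   some (3,[73,33,27,9],[37,15,27,9]),
   some (3,[25,33,27,66],[37,15,30,9]),
   some (3,[25,6,27,48],[67,6,69,9]),
   some (3,[19,33,18,63],[19,78,18,72]),
   none,
   none,
   some (3,[28,33,72,27],[55,33,72,27]),
   none,
   none,
   some (3,[68,39,63,36],[68,57,72,63]),
   none,
   none,
   some (3,[5,75,18,45],[41,39,18,45]),
   none,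
   none,
   some (3,[14,21,45,72],[77,39,36,45]),
   none,
   none,
   some (3,[52,69,36,45],[34,60,45,72]),
   none,
   none]

def redData20 : List (Option (ℕ × List ℕ × List ℕ)) :=
  [some (1,[41,30,39,75],[11,72,15,39]),
   some (2,[21,54,31,60],[36,57,59,6]),
   some (2,[41,3,4,60],[15,3,43,60]),
   some (3,[28,60,54,63],[10,15,45,18]),
   some (3,[43,60,54,42],[55,15,51,18]),
   some (3,[41,30,27,78],[56,21,60,9]),
   some (3,[37,60,27,9],[73,24,27,9]),
   some (3,[10,6,27,39],[70,6,48,9]),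
   some (3,[58,33,27,75],[4,15,60,9]),
   some (3,[41,39,9,36],[5,57,9,45]),
   none,
   none,
   some (3,[46,60,72,45],[55,51,36,63]),
   none,
   none,
   some (3,[40,42,45,18],[40,42,54,63]),
   none,
   none,
   some (3,[71,39,18,72],[17,30,18,63]),
   none,
   none,
   some (3,[41,75,45,36],[59,30,63,72]),
   none,
   none,
   some (3,[43,15,36,63],[70,78,72,45]),
   none,
   none]

def redData21 : List (Option (ℕ × List ℕ × List ℕ)) :=
  [some (1,[17,21,3,54],[8,9,15,54]),
   some (3,[11,48,54,30],[35,36,33,18]),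
   some (3,[74,48,27,6],[41,54,69,9]),
   some (3,[17,75,27,72],[26,57,72,9]),
   some (2,[37,42,65,48],[41,77,20,60]),
   some (3,[34,69,27,78],[40,48,33,9]),
   some (3,[28,15,27,72],[19,78,72,9]),
   some (3,[68,21,27,66],[29,78,75,9]),
   some (2,[35,48,5,75],[67,76,25,33]),
   some (3,[26,12,9,54],[8,21,9,54]),
   none,
   none,
   some (3,[67,51,72,54],[4,42,45,54]),
   none,
   none,
   some (3,[13,78,45,54],[58,69,72,54]),
   none,
   none,
   some (3,[14,12,18,36],[5,12,18,36]),
   none,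
   none,
   some (3,[2,21,45,18],[2,57,54,63]),
   none,
   none,
   some (3,[29,21,72,27],[29,75,72,27]),
   none,
   none]

def redData22 : List (Option (ℕ × List ℕ × List ℕ)) :=
  [some (1,[38,75,69,72],[56,57,78,12]),
   some (3,[40,69,27,57],[52,36,48,9]),
   some (3,[73,69,54,60],[76,63,57,18]),
   some (3,[10,42,54,45],[37,69,72,18]),
   some (2,[8,48,33,54],[38,72,51,54]),
   some (3,[1,42,27,78],[1,30,51,9]),
   some (3,[50,48,54,45],[5,57,72,18]),
   some (3,[14,75,27,78],[74,33,48,9]),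
   some (2,[8,21,18,27],[17,21,18,27]),
   some (3,[71,66,9,72],[71,66,9,72]),
   none,
   none,
   some (3,[7,6,72,63],[7,6,63,36]),
   none,
   none,
   some (3,[14,30,63,18],[14,39,54,72]),
   none,
   none,
   some (3,[31,33,9,63],[67,69,9,63]),
   none,
   none,
   some (3,[46,42,63,9],[10,78,27,45]),
   none,
   none,
   some (3,[4,6,36,54],[4,6,36,54]),
   none,
   none]

def redData23 : List (Option (ℕ × List ℕ × List ℕ)) :=
  [some (1,[41,48,45,24],[53,21,69,78]),
   some (3,[17,75,54,60],[17,63,78,18]),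
   some (3,[22,15,54,60],[4,63,66,18]),
   some (3,[44,21,27,9],[17,30,27,9]),
   some (2,[26,75,10,15],[73,20,47,60]),
   some (3,[52,69,27,24],[73,39,51,9]),
   some (3,[29,48,54,9],[20,39,27,18]),
   some (3,[20,21,27,24],[62,33,30,9]),
   some (2,[68,75,12,27],[65,78,48,27]),
   some (3,[37,69,18,63],[46,33,18,72]),
   none,
   none,
   some (3,[74,48,36,18],[20,48,54,36]),
   none,
   none,
   some (3,[5,3,63,9],[5,3,27,45]),
   none,
   none,
   some (3,[22,60,9,45],[49,78,9,36]),
   none,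
   none,
   some (3,[77,66,45,36],[68,12,63,72]),
   none,
   none,
   some (3,[14,12,72,45],[5,75,36,63]),
   none,
   none]

def redData24 : List (Option (ℕ × List ℕ × List ℕ)) :=
  [some (1,[71,12,72,54],[17,66,45,54]),
   some (3,[22,78,54,57],[34,45,78,18]),
   some (3,[23,39,54,60],[44,63,30,18]),
   some (3,[28,24,54,18],[10,33,54,18]),
   some (3,[68,66,54,75],[5,78,33,18]),
   some (2,[74,39,23,66],[64,68,22,33]),
   some (3,[49,78,27,9],[58,78,27,9]),
   some (2,[37,51,11,39],[71,16,80,60]),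
   some (3,[59,66,27,42],[35,42,60,9]),
   some (3,[35,3,9,72],[80,3,9,72]),
   none,
   none,
   some (3,[25,69,72,9],[16,69,27,72]),
   none,
   none,
   some (3,[1,24,45,54],[1,42,72,54]),
   none,
   none,
   some (3,[13,15,9,54],[13,15,9,54]),
   none,
   none,
   some (3,[56,12,45,27],[56,66,45,27]),
   none,
   none,
   some (3,[65,12,72,63],[29,48,63,36]),
   none,
   none]

def redData25 : List (Option (ℕ × List ℕ × List ℕ)) :=
  [some (1,[49,51,15,48],[55,57,66,36]),
   some (3,[50,39,27,3],[80,27,75,9]),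
   some (3,[50,12,54,60],[44,63,48,18]),
   some (3,[5,12,27,36],[68,66,45,9]),
   some (3,[70,51,27,42],[73,39,57,9]),
   some (2,[59,12,41,66],[78,46,68,57]),
   some (3,[17,12,54,72],[53,48,63,18]),
   some (2,[47,39,9,27],[47,75,9,27]),
   some (3,[77,66,27,75],[29,69,33,9]),
   some (3,[68,75,9,63],[23,75,9,63]),
   none,
   none,
   some (3,[64,51,72,63],[55,60,63,36]),
   none,
   none,
   some (3,[68,48,63,18],[23,12,54,72]),
   none,
   none,
   some (3,[55,51,9,72],[73,69,9,72]),
   none,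
   none,
   some (3,[28,51,63,18],[37,24,54,72]),
   none,
   none,
   some (3,[67,15,36,27],[13,69,63,27]),
   none,
   none]

def redData26 : List (Option (ℕ × List ℕ × List ℕ)) :=
  [some (1,[34,78,15,48],[13,48,30,36]),
   some (3,[29,39,27,3],[11,27,75,9]),
   some (3,[28,78,27,6],[19,54,51,9]),
   some (3,[44,12,27,36],[80,66,45,9]),
   some (3,[8,12,54,42],[77,42,78,18]),
   some (2,[30,27,17,66],[46,7,35,3]),
   some (3,[80,66,54,45],[26,30,72,18]),
   some (2,[72,54,17,12],[79,34,5,6]),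
   some (3,[80,12,27,75],[26,78,42,9]),
   some (3,[43,69,18,54],[61,51,18,54]),
   none,
   none,
   some (3,[10,78,72,9],[55,15,27,72]),
   none,
   none,
   some (3,[52,15,45,72],[34,42,36,45]),
   none,
   none,
   some (3,[44,48,18,27],[62,75,18,27]),
   none,
   none,
   some (3,[58,15,63,9],[22,33,27,45]),
   none,
   none,
   some (3,[64,78,36,18],[64,24,54,36]),
   none,
   none]

/-- The reduction table. -/
def redData : List (Option (ℕ × List ℕ × List ℕ)) :=
  List.flatten [redData0, redData1, redData2, redData3, redData4, redData5, redData6, redData7, redData8, redData9, redData10, redData11, redData12, redData13, redData14, redData15, redData16, redData17, redData18, redData19, redData20, redData21, redData22, redData23, redData24, redData25, redData26]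

end CfsgLib.SmallGroups.Omega8Three
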