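import Cfsg.Agent.Lib.SmallGroups.Omega8Three.Cert0
import Cfsg.Agent.Lib.SmallGroups.Omega8Three.Cert1
import Cfsg.Agent.Lib.SmallGroups.Omega8Three.Cert2
import Cfsg.Agent.Lib.SmallGroups.Omega8Three.Cert3
import Cfsg.Agent.Lib.SmallGroups.Omega8Three.LeviData
import Cfsg.Agent.Lib.SmallGroups.Omega8Three.Levi

/-!
Every element of order three of the orthogonal group is conjugate under the commutator subgroup to
one of thirteen representatives or its square.
-/

set_option autoImplicit false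

namespace CfsgLib.SmallGroups.Omega8Three

open Matrix

/-- A four by four matrix from ternary rows. -/
def mat4 (g : List ℕ) : M4 := Matrix.of fun i k => ((g.getD i.val 0 / 3 ^ k.val : ℕ) : ZMod 3)

/-- The check of one reduction. -/
def checkRed (a : T6) : Option (ℕ × List ℕ × List ℕ) → Bool
  | none => decide (uniMat a * uniMat a * uniMat a ≠ 1)
  | some c =>
    if h : c.1 < 4 then
      decide (mat4 c.2.2 * mat4 c.2.1 = 1 ∧ mat4 c.2.1 * uniMat a = uniMat (leviRep ⟨c.1, h⟩) * mat4 c.2.1)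
    else false

theorem checkRed_all : all2 checkRed sixes redData = true := by decide +kernel

theorem exists_red (a : T6) (h3 : uniMat a * uniMat a * uniMat a = 1) :
    ∃ b : Fin 4, ∃ A : GL (Fin 4) (ZMod 3), (A : M4) * uniMat a = uniMat (leviRep b) * (A : M4) := by
  obtain ⟨c, hc⟩ := exists_of_all2 checkRed_all a (mem_sixes a)
  cases c with
  | none => simp [checkRed, h3] at hc
  | some c =>
    obtain ⟨b, A, B⟩ := c
    simp only [checkRed] at hc
    split at hc
    · rename_i hb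
      obtain ⟨h1, h2⟩ := of_decide_eq_true hc
      exact ⟨⟨b, hb⟩, ⟨mat4 A, mat4 B, mul_eq_one_comm.1 h1, h1⟩, h2⟩
    · exact absurd hc (by simp)

theorem checkLevi_all : ∀ b : Fin 4, ∃ tbl, checkLevi b tbl = true := by
  intro b
  fin_cases b
  exacts [⟨_, checkLevi0⟩, ⟨_, checkLevi1⟩, ⟨_, checkLevi2⟩, ⟨_, checkLevi3⟩]

/-- The packed word of letters. -/
def wordC (l : List ℕ) : List ℕ := l.foldr (fun i acc => mulC (codeOf (letterData.getD i [])) acc) oneC

theorem letter_facts : ∀ i : Fin 24, (matOf (letterData.getD i.val []))ᵀ * G8 * matOf (letterData.getD i.val []) = G8 ∧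
    mulC (mulC (codeOf (letterData.getD i.val [])) (codeOf (letterData.getD i.val [])))
      (codeOf (letterData.getD i.val [])) = oneC := by
  decide +kernel

theorem exists_word : ∀ l : List ℕ, (∀ i ∈ l, i < 24) → ∃ w ∈ W8, rows (val8 w) = wordC l
  | [], _ => ⟨1, one_mem _, by rw [map_one]; exact rows_one⟩
  | i :: l, h => by
    obtain ⟨w, hw, hwl⟩ := exists_word l fun j hj => h j (List.mem_cons_of_mem _ hj)
    obtain ⟨g, hg⟩ := exists_of_gram (letter_facts ⟨i, h i (List.mem_cons_self ..)⟩).1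
    refine ⟨g * w, mul_mem (mem_W8_of_pow_three (k := 1) (val8_injective (rows_injective ?_))) hw, ?_⟩
    · rw [pow_one, map_pow, map_one, pow_succ, pow_two, rows_mul, rows_mul, hg, rows_matOf, rows_one]
      exact (letter_facts ⟨i, h i (List.mem_cons_self ..)⟩).2
    · rw [map_mul, rows_mul, hg, rows_matOf, hwl]
      rfl

/-- The check of a table of twists. -/
def checkTwist (C : List ℕ) (tbl : List (ℕ × List ℕ)) : Bool :=
  decide (tbl.length = 13) && (List.range 13).all fun k =>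
    let c := tbl.getD k (0, [])
    decide (c.1 < 26) && c.2.all (fun i => decide (i < 24)) &&
      (mulC (wordC c.2) (mulC (mulC C (tgtC.getD k [])) C) == mulC (tgtC.getD c.1 []) (wordC c.2))

/-- The target of a twist. -/
def twistTgt (tbl : List (ℕ × List ℕ)) (k : Fin 13) : Fin 13 := ⟨(tbl.getD k.val (0, [])).1 % 13, Nat.mod_lt _ (by norm_num)⟩

theorem tgtMat_cases (j : Fin 26) : tgtMat j = repMat ⟨j.val % 13, Nat.mod_lt _ (by norm_num)⟩ ∨
    tgtMat j = repMat ⟨j.val % 13, Nat.mod_lt _ (by norm_num)⟩ * repMat ⟨j.val % 13, Nat.mod_lt _ (by norm_num)⟩ := by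
  by_cases h : j.val < 13
  · left; rw [tgtMat, dif_pos h]; congr 1; exact Fin.ext (Nat.mod_eq_of_lt h).symm
  · right; rw [tgtMat, dif_neg h]
    have e : (⟨j.val - 13, by omega⟩ : Fin 13) = ⟨j.val % 13, Nat.mod_lt _ (by norm_num)⟩ :=
      Fin.ext (by simp only; omega)
    rw [e]

theorem exists_twist_mat {M : M8} {tbl : List (ℕ × List ℕ)} (h : checkTwist (rows M) tbl = true) (k : Fin 13) :
    ∃ w ∈ W8, val8 w * (M * repMat k * M) = repMat (twistTgt tbl k) * val8 w ∨
      val8 w * (M * repMat k * M) = repMat (twistTgt tbl k) * repMat (twistTgt tbl k) * val8 w := by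
  simp only [checkTwist, Bool.and_eq_true, decide_eq_true_eq, List.all_eq_true, List.mem_range, beq_iff_eq] at h
  obtain ⟨⟨hlt, hword⟩, heq⟩ := h.2 k.val k.isLt
  obtain ⟨w, hw, hwl⟩ := exists_word _ hword
  refine ⟨w, hw, ?_⟩
  have hk : rows (repMat k) = tgtC.getD k.val [] := by
    have := rows_tgtMat ⟨k.val, by omega⟩
    rwa [tgtMat, dif_pos k.isLt] at this
  have e : val8 w * (M * repMat k * M) = tgtMat ⟨_, hlt⟩ * val8 w := rows_injective (by
    rw [rows_mul, rows_mul, rows_mul, rows_mul, rows_tgtMat, hwl, hk, heq])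
  rcases tgtMat_cases ⟨_, hlt⟩ with h' | h'
  · exact Or.inl (by rw [e, h']; rfl)
  · exact Or.inr (by rw [e, h']; rfl)

theorem checkTwist_t : checkTwist (rows tMat) tTwist = true := by decide +kernel
theorem checkTwist_r : checkTwist (rows rMat) rTwist = true := by decide +kernel

theorem repMat_facts : ∀ k : Fin 13, (repMat k)ᵀ * G8 * repMat k = G8 ∧
    repMat k * repMat k * repMat k = 1 ∧ repMat k ≠ 1 := by
  decide +kernel

/-- The representatives. -/
noncomputable def repElt (k : Fin 13) : O8 := (exists_of_gram (repMat_facts k).1).choose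

theorem val_repElt (k : Fin 13) : val8 (repElt k) = repMat k := (exists_of_gram (repMat_facts k).1).choose_spec

theorem repElt_cube (k : Fin 13) : repElt k ^ 3 = 1 := val8_injective (by
  rw [map_pow, map_one, val_repElt, pow_succ, pow_two]; exact (repMat_facts k).2.1)

theorem repElt_ne_one (k : Fin 13) : repElt k ≠ 1 := fun h => (repMat_facts k).2.2 (by
  rw [← val_repElt, h, map_one])

theorem repElt_mem (k : Fin 13) : repElt k ∈ W8 :=
  mem_W8_of_pow_three (k := 1) (by rw [pow_one]; exact repElt_cube k)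

/-- Conjugate to a representative or its square by an element of a subgroup. -/
def ConjTo (H : Subgroup O8) (k : Fin 13) (x : O8) : Prop :=
  ∃ w ∈ H, w * x * w⁻¹ = repElt k ∨ w * x * w⁻¹ = repElt k ^ 2

theorem ConjTo.sq {H : Subgroup O8} {k : Fin 13} {x : O8} (h : ConjTo H k x) : ConjTo H k (x ^ 2) := by
  obtain ⟨w, hw, h | h⟩ := h
  · exact ⟨w, hw, Or.inr (by rw [← conj_pow, h])⟩
  · refine ⟨w, hw, Or.inl ?_⟩
    rw [← conj_pow, h, ← pow_mul, show 2 * 2 = 3 + 1 by norm_num, pow_add, repElt_cube, one_mul, pow_one]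

theorem ConjTo.conj {H : Subgroup O8} {k : Fin 13} {x : O8} (h : ConjTo H k x) {v : O8} (hv : v ∈ H) :
    ConjTo H k (v * x * v⁻¹) := by
  obtain ⟨w, hw, h⟩ := h
  refine ⟨w * v⁻¹, mul_mem hw (inv_mem hv), ?_⟩
  have e : w * v⁻¹ * (v * x * v⁻¹) * (w * v⁻¹)⁻¹ = w * x * w⁻¹ := by group
  rwa [e]

theorem conjTo_twist {c : O8} (hc : c * c = 1) {tbl : List (ℕ × List ℕ)}
    (h : checkTwist (rows (val8 c)) tbl = true) (k : Fin 13) :
    ConjTo W8 (twistTgt tbl k) (c * repElt k * c⁻¹) := by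
  obtain ⟨w, hw, e⟩ := exists_twist_mat h k
  refine ⟨w, hw, ?_⟩
  rw [inv_eq_of_mul_eq_one_right hc]
  rcases e with e | e
  · refine Or.inl (mul_inv_eq_iff_eq_mul.2 (val8_injective ?_))
    simp only [map_mul, val_repElt]
    exact e
  · refine Or.inr (mul_inv_eq_iff_eq_mul.2 (val8_injective ?_))
    simp only [map_mul, map_pow, val_repElt, pow_two]
    exact e

theorem covered_of_mem_U8 {u : O8} (hu : u ∈ U8) (h3 : u ^ 3 = 1) (h1 : u ≠ 1) :
    ∃ k : Fin 13, ConjTo ⊤ k u := by
  obtain ⟨⟨a, s⟩, hp⟩ := param_surjective ⟨u, hu⟩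
  have hu' : val8 u = blk (uniMat a) (uniMat a * skewMat s) 0 (uniDual a) := by
    rw [← aMat_mul_nMat, ← val_param (a, s), hp]
  have ha3 : uniMat a * uniMat a * uniMat a = 1 := by
    have h := congrArg (fun g => blA (val8 g)) h3
    have h1' : blA (1 : M8) = 1 := by rw [← blk_one, blA_blk]
    simp only [pow_succ, pow_zero, one_mul, map_mul, map_one, hu', blk_mul, blA_blk, zero_mul, mul_zero,
      add_zero, h1'] at h
    exact h
  obtain ⟨b, A, hA⟩ := exists_red a ha3
  set h := lev A with hh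
  have hv : blA (val8 (h * u * h⁻¹)) = uniMat (leviRep b) ∧ blC (val8 (h * u * h⁻¹)) = 0 := by
    rw [map_mul, map_mul, hh, ← map_inv lev, val_lev, val_lev, hu', levMat, levMat, blk_mul, blk_mul,
      inv_inv]
    simp only [blA_blk, blC_blk, zero_mul, mul_zero, add_zero]
    rw [hA, mul_assoc, ← Units.val_mul, mul_inv_cancel, Units.val_one, mul_one]
    exact ⟨rfl, trivial⟩
  have hx : h * u * h⁻¹ ∈ U8 := mem_U8.2 ⟨hv.1 ▸ uniMat_isUni4 _, hv.2⟩
  obtain ⟨⟨a', s'⟩, hp'⟩ := param_surjective ⟨_, hx⟩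
  have hx' : val8 (h * u * h⁻¹) = aMat a' * nMat s' := by rw [← val_param (a', s'), hp']
  obtain rfl : a' = leviRep b := uniMat_injective (by
    rw [← hv.1, hx', aMat_mul_nMat, blA_blk])
  have hM3 : (aMat (leviRep b) * nMat s') ^ 3 = 1 := by
    rw [← hx', ← map_pow, conj_pow, h3]; simp
  obtain ⟨tbl, ht⟩ := checkLevi_all b
  rcases covered_of_checkLevi ht s' hM3 with key | ⟨k, g, hg⟩
  · refine absurd ?_ h1
    have : h * u * h⁻¹ = 1 := val8_injective (by rw [hx', key, map_one])
    simpa using this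
  · refine ⟨⟨k.val % 13, Nat.mod_lt _ (by norm_num)⟩, g * h, Subgroup.mem_top _, ?_⟩
    have e : g * h * u * (g * h)⁻¹ = g * (h * u * h⁻¹) * g⁻¹ := by group
    rw [e]
    rcases tgtMat_cases k with hk | hk <;> rw [hk, ← hx'] at hg
    · refine Or.inl (mul_inv_eq_iff_eq_mul.2 (val8_injective ?_))
      rw [map_mul val8 g, map_mul val8 _ g, val_repElt]; exact hg
    · refine Or.inr (mul_inv_eq_iff_eq_mul.2 (val8_injective ?_))
      rw [map_mul val8 g, map_mul val8 _ g, map_pow, pow_two, val_repElt]; exact hg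

theorem conjTo_coset (a : Fin 4) (k : Fin 13) : ∃ k', ConjTo W8 k' ((cosetRep a)⁻¹ * repElt k * cosetRep a) := by
  have hid : ∀ j, ConjTo W8 j (repElt j) := fun j => ⟨1, one_mem _, Or.inl (by simp)⟩
  have ht : ∀ j, ConjTo W8 (twistTgt tTwist j) (tElt * repElt j * tElt⁻¹) := fun j =>
    conjTo_twist tElt_sq (by rw [val_tElt]; exact checkTwist_t) j
  have hr : ∀ j, ConjTo W8 (twistTgt rTwist j) (rElt * repElt j * rElt⁻¹) := fun j =>
    conjTo_twist rElt_sq (by rw [val_rElt]; exact checkTwist_r) j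
  have ti : tElt⁻¹ = tElt := inv_eq_of_mul_eq_one_right tElt_sq
  have ri : rElt⁻¹ = rElt := inv_eq_of_mul_eq_one_right rElt_sq
  fin_cases a
  · exact ⟨k, by simpa [cosetRep] using hid k⟩
  · exact ⟨_, by simpa [cosetRep, ti] using ht k⟩
  · exact ⟨_, by simpa [cosetRep, ri] using hr k⟩
  · refine ⟨twistTgt tTwist (twistTgt rTwist k), ?_⟩
    change ConjTo W8 _ ((rElt * tElt)⁻¹ * repElt k * (rElt * tElt))
    have e : (rElt * tElt)⁻¹ * repElt k * (rElt * tElt) = tElt * (rElt * repElt k * rElt⁻¹) * tElt⁻¹ := by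
      rw [_root_.mul_inv_rev, ti, ri]; group
    obtain ⟨w, hw, hwk⟩ := hr k
    have hwt : tElt * w⁻¹ * tElt⁻¹ ∈ W8 := Subgroup.Normal.conj_mem inferInstance _ (inv_mem hw) _
    rw [e]
    rcases hwk with hwk | hwk
    · have := (ht (twistTgt rTwist k)).conj hwt
      rw [← hwk] at this
      convert this using 1
      group
    · have := (ht (twistTgt rTwist k)).sq.conj hwt
      rw [conj_pow, ← hwk] at this
      convert this using 1
      group

theorem exists_conjTo {x : O8} (h3 : x ^ 3 = 1) (h1 : x ≠ 1) : ∃ k, ConjTo W8 k x := by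
  obtain ⟨g₀, hg₀⟩ := exists_conj_mem_U8 h3
  obtain ⟨k, g₁, -, hg₁⟩ := covered_of_mem_U8 hg₀ (by rw [conj_pow, h3]; simp) (fun h => h1 (by simpa using h))
  set g := g₁ * g₀ with hg
  have hgx : g * x * g⁻¹ = repElt k ∨ g * x * g⁻¹ = repElt k ^ 2 := by
    have e : g * x * g⁻¹ = g₁ * (g₀ * x * g₀⁻¹) * g₁⁻¹ := by rw [hg]; group
    rwa [e]
  obtain ⟨a, ha⟩ := exists_coset g
  obtain ⟨k', hk'⟩ := conjTo_coset a k
  refine ⟨k', ?_⟩
  set v := (cosetRep a)⁻¹ * g with hv
  have hvx : v * x * v⁻¹ = (cosetRep a)⁻¹ * (g * x * g⁻¹) * cosetRep a := by rw [hv]; group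
  have key : ConjTo W8 k' (v * x * v⁻¹) := by
    rcases hgx with h | h <;> rw [hvx, h]
    · exact hk'
    · have := hk'.sq
      convert this using 1
      rw [pow_two, pow_two]; group
  have := key.conj (inv_mem ha)
  convert this using 1
  group

end CfsgLib.SmallGroups.Omega8Three
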