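import Cfsg.Agent.Lib.SmallGroups.Omega8Three.Code
import Cfsg.Agent.Lib.Classical.QuadPOmega
import Cfsg.Agent.Lib.Classical.QuadBridge
import Cfsg.Agent.Lib.Classical.SpinorMatrix
import Cfsg.Agent.Lib.Classical.QuadStd

/-!
The orthogonal group of plus type in eight variables over the field with three elements as a group of
matrices, the cosets of its commutator subgroup, and the passage to the simple group.
-/

set_option autoImplicit false

namespace CfsgLib.SmallGroups.Omega8Three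

open Matrix CfsgLib.Classical

instance instFactThreeO8 : Fact (Nat.Prime 3) := ⟨Nat.prime_three⟩

/-- The Gram matrix of the polar form. -/
def G8 : M8 := Matrix.of fun i k => if k.val = i.val + 4 ∨ i.val = k.val + 4 then 1 else 0

theorem G8_transpose : G8ᵀ = G8 := by decide +kernel

/-- The isometry group as a matrix group. -/
def O8 : Subgroup (GL (Fin 8) (ZMod 3)) where
  carrier := {g | (g : M8)ᵀ * G8 * (g : M8) = G8}
  one_mem' := by simp
  mul_mem' {a b} ha hb := by
    change (Units.val (a * b) : M8)ᵀ * G8 * Units.val (a * b) = G8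
    have ha' : (a : M8)ᵀ * G8 * (a : M8) = G8 := ha
    have hb' : (b : M8)ᵀ * G8 * (b : M8) = G8 := hb
    calc _ = (b : M8)ᵀ * ((a : M8)ᵀ * G8 * (a : M8)) * (b : M8) := by
          rw [Units.val_mul, transpose_mul]; simp only [Matrix.mul_assoc]
      _ = G8 := by rw [ha', hb']
  inv_mem' {a} ha := by
    change (Units.val a⁻¹ : M8)ᵀ * G8 * Units.val a⁻¹ = G8
    have ha' : (a : M8)ᵀ * G8 * (a : M8) = G8 := ha
    calc _ = ((a : M8) * Units.val a⁻¹)ᵀ * G8 * ((a : M8) * Units.val a⁻¹) := by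
          conv_lhs => rw [← ha']
          rw [transpose_mul]; simp only [Matrix.mul_assoc]
      _ = G8 := by rw [← Units.val_mul, mul_inv_cancel]; simp

/-- The matrix of an element. -/
def val8 : O8 →* M8 := (Units.coeHom M8).comp O8.subtype

theorem val8_injective : Function.Injective val8 := fun _ _ h => Subtype.ext (Units.ext h)

theorem val8_mem (g : O8) : (val8 g)ᵀ * G8 * val8 g = G8 := g.2

theorem exists_of_gram {M : M8} (hM : Mᵀ * G8 * M = G8) : ∃ g : O8, val8 g = M := by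
  have hG : (G8 * G8 : M8) = 1 := by decide +kernel
  have hl : (G8 * Mᵀ * G8) * M = 1 := by
    rw [Matrix.mul_assoc G8 Mᵀ, Matrix.mul_assoc G8, hM, hG]
  exact ⟨⟨⟨M, G8 * Mᵀ * G8, mul_eq_one_comm.1 hl, hl⟩, hM⟩, rfl⟩

theorem val8_inv_mul (g : O8) : val8 g⁻¹ * val8 g = 1 := by rw [← map_mul, inv_mul_cancel, map_one]

theorem val8_mul_inv (g : O8) : val8 g * val8 g⁻¹ = 1 := by rw [← map_mul, mul_inv_cancel, map_one]

theorem val8_inv_eq (g : O8) : val8 g⁻¹ = G8 * (val8 g)ᵀ * G8 := by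
  have hG : (G8 * G8 : M8) = 1 := by decide +kernel
  refine (left_inv_eq_right_inv ?_ (val8_mul_inv g)).symm
  rw [Matrix.mul_assoc G8 (val8 g)ᵀ, Matrix.mul_assoc G8, val8_mem, hG]

theorem val8_mul_left_cancel (g : O8) {X Y : M8} (h : val8 g * X = val8 g * Y) : X = Y := by
  simpa [← mul_assoc, ← map_mul] using congrArg (val8 g⁻¹ * ·) h

/-- The index type of the standard basis. -/
abbrev PlusI : Type := Fin 4 ⊕ Fin 4

/-- The numbering of the standard basis. -/
def flagEquiv : PlusI ≃ Fin 8 := finSumFinEquiv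

/-- The quadratic form. -/
def q8 (v : Fin 8 → ZMod 3) : ZMod 3 := v 0 * v 4 + v 1 * v 5 + v 2 * v 6 + v 3 * v 7

theorem q8_eq (v : Fin 8 → ZMod 3) : qPlus 4 (ZMod 3) (v ∘ flagEquiv) = q8 v := by
  rw [coe_qPlus]
  simp [Cfsg.quadFormPlus, q8, Fin.sum_univ_four, flagEquiv]
  rfl

theorem two_q8 (v : Fin 8 → ZMod 3) : q8 v = 2 * (v ⬝ᵥ (G8 *ᵥ v)) := by
  have h3 : (3 : ZMod 3) = 0 := rfl
  simp [q8, dotProduct, mulVec, G8, Matrix.of_apply, Fin.sum_univ_eight, Fin.val_ofNat]
  linear_combination (-(v 0 * v 4) - v 1 * v 5 - v 2 * v 6 - v 3 * v 7) * h3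

theorem mem_O8_iff (g : GL (Fin 8) (ZMod 3)) : g ∈ O8 ↔ ∀ v, q8 ((g : M8) *ᵥ v) = q8 v := by
  change (g : M8)ᵀ * G8 * (g : M8) = G8 ↔ _
  have e : ∀ u w, ((g : M8) *ᵥ u) ⬝ᵥ (G8 *ᵥ ((g : M8) *ᵥ w)) = u ⬝ᵥ (((g : M8)ᵀ * G8 * (g : M8)) *ᵥ w) := by
    intro u w
    rw [← mulVec_mulVec, ← mulVec_mulVec, dotProduct_mulVec u (g : M8)ᵀ, vecMul_transpose]
  refine ⟨fun h v => by rw [two_q8, two_q8, e, h], fun h => ?_⟩
  have hs : ∀ u w : Fin 8 → ZMod 3, u ⬝ᵥ (G8 *ᵥ w) = q8 (u + w) - q8 u - q8 w := by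
    intro u w
    simp [q8, dotProduct, mulVec, G8, Matrix.of_apply, Fin.sum_univ_eight, Fin.val_ofNat]
    ring
  ext i j
  have := e (Pi.single i 1) (Pi.single j 1)
  rw [hs, ← mulVec_add, h, h, h, ← hs] at this
  simpa using this.symm

/-- The matrix model of the isometry group. -/
theorem exists_model : ∃ φ : Cfsg.isometryGroup (ZMod 3) ⇑(qPlus 4 (ZMod 3)) ≃* O8,
    ∀ g, val8 (φ g) = (((g : GL PlusI (ZMod 3)) : Matrix PlusI PlusI (ZMod 3))).submatrix
      flagEquiv.symm flagEquiv.symm := by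
  let ψ : GL PlusI (ZMod 3) ≃* GL (Fin 8) (ZMod 3) :=
    Units.mapEquiv (Matrix.reindexAlgEquiv (ZMod 3) (ZMod 3) flagEquiv).toMulEquiv
  have hψ : ∀ g, ((ψ g : GL (Fin 8) (ZMod 3)) : M8) =
      ((g : GL PlusI (ZMod 3)) : Matrix PlusI PlusI (ZMod 3)).submatrix
        flagEquiv.symm flagEquiv.symm := fun g => rfl
  have hmap : (Cfsg.isometryGroup (ZMod 3) ⇑(qPlus 4 (ZMod 3))).map ψ.toMonoidHom = O8 := by
    ext g
    rw [Subgroup.mem_map_equiv, mem_O8_iff]
    have hq : ∀ v, ((g : M8) *ᵥ v) ∘ flagEquiv =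
        ((ψ.symm g : GL PlusI (ZMod 3)) : Matrix PlusI PlusI (ZMod 3)) *ᵥ (v ∘ flagEquiv) := by
      intro v
      conv_lhs => rw [← ψ.apply_symm_apply g, hψ, submatrix_mulVec_equiv]
      ext k
      simp [Function.comp_def]
    refine ⟨fun h v => ?_, fun h u w => ?_⟩
    · rw [← q8_eq, ← q8_eq, hq]; exact h _ (v ∘ flagEquiv)
    · change qPlus 4 (ZMod 3) (_ *ᵥ u) = qPlus 4 (ZMod 3) u
      have := h (u ∘ flagEquiv.symm)
      rw [← q8_eq, ← q8_eq, hq] at this
      simpa [Function.comp_def] using this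
  exact ⟨(ψ.subgroupMap _).trans (MulEquiv.subgroupCongr hmap), fun g => hψ g⟩

theorem two_ne_zero_three : (2 : ZMod 3) ≠ 0 := by decide

theorem card_O8 : Nat.card O8 = 2 * 3 ^ 12 * (80 * (8 * 80 * 728)) := by
  obtain ⟨φ, -⟩ := exists_model
  rw [← Nat.card_congr φ.toEquiv, card_isometryGroup_coe _ rfl, card_qAut_qPlus, card_qAut_plus 3]
  simp [Finset.prod_range_succ]

/-- The commutator subgroup. -/
abbrev W8 : Subgroup O8 := commutator O8

theorem index_W8 : W8.index = 4 := by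
  obtain ⟨φ, -⟩ := exists_model
  rw [← index_commutator_congr φ]
  exact index_Omega_odd _ two_ne_zero_three (polarNondeg_qPlus 4) (by simp)

theorem mem_W8_of_pow_three {g : O8} {k : ℕ} (hg : g ^ 3 ^ k = 1) : g ∈ W8 := by
  rw [← QuotientGroup.eq_one_iff, ← orderOf_eq_one_iff]
  have h1 := orderOf_dvd_natCard (G := O8 ⧸ W8) (g : O8 ⧸ W8)
  rw [← Subgroup.index_eq_card, index_W8] at h1
  have h2 : orderOf (g : O8 ⧸ W8) ∣ 3 ^ k :=
    orderOf_dvd_of_pow_eq_one (by rw [← QuotientGroup.mk_pow, hg, QuotientGroup.mk_one])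
  exact Nat.eq_one_of_dvd_coprimes (Nat.Coprime.pow_right k (by norm_num)) h1 h2

theorem det_W8 {g : O8} (hg : g ∈ W8) : (val8 g).det = 1 := by
  have := Abelianization.commutator_subset_ker ((GeneralLinearGroup.det : GL (Fin 8) (ZMod 3) →* (ZMod 3)ˣ).comp
    O8.subtype) hg
  simpa [val8] using congrArg Units.val (MonoidHom.mem_ker.1 this)

/-- The torus element of determinant one outside the commutator subgroup. -/
def tMat : M8 := Matrix.diagonal ![2, 1, 1, 1, 2, 1, 1, 1]

/-- A reflection. -/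
def rMat : M8 := Matrix.of fun i k => if k.val = (if i.val = 3 then 7 else if i.val = 7 then 3 else i.val) then 1 else 0

theorem exists_tElt : ∃ t : O8, val8 t = tMat ∧ t ∉ W8 := by
  obtain ⟨φ, hφ⟩ := exists_model
  let u : PlusI → ZMod 3 := Pi.single (.inl 0) 1 + Pi.single (.inr 0) 1
  let w : PlusI → ZMod 3 := Pi.single (.inl 0) 1 - Pi.single (.inr 0) 1
  have hval : qPlus 4 (ZMod 3) u = 1 ∧ qPlus 4 (ZMod 3) w = 2 := by
    rw [coe_qPlus]; decide +kernel
  have hu : qPlus 4 (ZMod 3) u ≠ 0 := by rw [hval.1]; decide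
  have hw : qPlus 4 (ZMod 3) w ≠ 0 := by rw [hval.2]; decide
  set g := reflect (qPlus 4 (ZMod 3)) u hu * reflect (qPlus 4 (ZMod 3)) w hw with hg
  have hmat : ((g : GL PlusI (ZMod 3)) : Matrix PlusI PlusI (ZMod 3)) =
      Cfsg.reflectionMatrix (⇑(qPlus 4 (ZMod 3))) u * Cfsg.reflectionMatrix (⇑(qPlus 4 (ZMod 3))) w := by
    rw [hg, Subgroup.coe_mul, Units.val_mul, reflect_coe, reflect_coe]
  refine ⟨φ g, ?_, fun h => ?_⟩
  · rw [hφ, hmat, coe_qPlus]
    decide +kernel
  · have h' : g ∈ Cfsg.Omega (ZMod 3) ⇑(qPlus 4 (ZMod 3)) := by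
      change φ g ∈ commutator O8 at h
      rw [← map_commutator_equiv φ] at h
      exact (Subgroup.mem_map_iff_mem φ.injective).1 h
    have := (Spin.mem_Omega_refl_list_iff _ (polarNondeg_qPlus 4) (Or.inl (by simp)) g [u, w]
      (by simp [hu, hw]) (by simp [hmat])).1 h'
    simp [hval.1, hval.2] at this
    exact absurd this (by decide +kernel)

/-- The torus element. -/
noncomputable def tElt : O8 := exists_tElt.choose

theorem val_tElt : val8 tElt = tMat := exists_tElt.choose_spec.1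

theorem tElt_notMem : tElt ∉ W8 := exists_tElt.choose_spec.2

theorem mat_facts : rMatᵀ * G8 * rMat = G8 ∧ tMat * tMat = 1 ∧ rMat * rMat = 1 ∧
    tMat * rMat = rMat * tMat := by
  decide +kernel

/-- The reflection as an element. -/
noncomputable def rElt : O8 := (exists_of_gram mat_facts.1).choose

theorem val_rElt : val8 rElt = rMat := (exists_of_gram mat_facts.1).choose_spec

theorem det_rMat : rMat.det = 2 := by
  rw [show rMat = (Equiv.swap (3 : Fin 8) 7).toPEquiv.toMatrix by decide +kernel, Matrix.det_permutation,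
    Equiv.Perm.sign_swap (by decide)]
  decide

theorem det_tMat : tMat.det = 1 := by
  rw [tMat, det_diagonal]; decide

theorem tElt_sq : tElt * tElt = 1 := val8_injective (by rw [map_mul, map_one, val_tElt, mat_facts.2.1])

theorem rElt_sq : rElt * rElt = 1 := val8_injective (by rw [map_mul, map_one, val_rElt, mat_facts.2.2.1])

/-- Coset representatives of the commutator subgroup. -/
noncomputable def cosetRep : Fin 4 → O8 := ![1, tElt, rElt, rElt * tElt]

theorem exists_coset (g : O8) : ∃ a, (cosetRep a)⁻¹ * g ∈ W8 := by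
  let π : O8 →* O8 ⧸ W8 := QuotientGroup.mk' W8
  have hd : ∀ y : O8, π y = 1 → (val8 y).det = 1 := fun y h => det_W8 ((QuotientGroup.eq_one_iff _).1 h)
  have h1 : π rElt ≠ 1 := fun h => by
    have := hd _ h
    rw [val_rElt, det_rMat] at this
    exact absurd this (by decide)
  have h2 : π rElt * π tElt ≠ 1 := fun h => by
    have := hd _ ((map_mul π _ _).trans h)
    rw [map_mul, val_rElt, val_tElt, det_mul, det_rMat, det_tMat] at this
    exact absurd this (by decide)
  have h3 : π tElt ≠ 1 := fun h => tElt_notMem ((QuotientGroup.eq_one_iff _).1 h)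
  have h4 : π tElt * π tElt = 1 := by rw [← map_mul, tElt_sq, map_one]
  have hnot : ∀ a b : Fin 4, a ≠ b → π (cosetRep a) ≠ π (cosetRep b) := by
    intro a b hab
    fin_cases a <;> fin_cases b <;> simp [cosetRep] at hab ⊢ <;>
      first
        | assumption
        | exact Ne.symm h1 | exact Ne.symm h2 | exact Ne.symm h3
        | (intro h; exact h2 (by rw [h, h4]))
        | (intro h; exact h2 (by rw [← h, h4]))
  have hbij : Function.Bijective fun a => π (cosetRep a) := by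
    have : Fintype (O8 ⧸ W8) := Fintype.ofFinite _
    rw [Fintype.bijective_iff_injective_and_card]
    refine ⟨fun a b h => by_contra fun hne => hnot a b hne h, ?_⟩
    rw [Fintype.card_fin, ← Nat.card_eq_fintype_card, ← Subgroup.index_eq_card, index_W8]
  obtain ⟨a, ha⟩ := hbij.2 (π g)
  exact ⟨a, QuotientGroup.eq.1 ha⟩

theorem card_center_W8 : Nat.card (Subgroup.center W8) = 2 := by
  obtain ⟨φ, -⟩ := exists_model
  have hneg : negIso (qPlus 4 (ZMod 3)) ∈ Cfsg.Omega (ZMod 3) ⇑(qPlus 4 (ZMod 3)) :=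
    (negIso_mem_Omega_iff _ two_ne_zero_three (polarNondeg_qPlus 4) ⟨4, rfl⟩ (by simp)).2 (by
      rw [det_polarGram_qPlus, Even.neg_one_pow ⟨2, rfl⟩]; exact IsSquare.one)
  let e : Cfsg.Omega (ZMod 3) ⇑(qPlus 4 (ZMod 3)) ≃* W8 :=
    (φ.subgroupMap _).trans (MulEquiv.subgroupCongr (map_commutator_equiv φ))
  rw [← Nat.card_congr (Subgroup.centerCongr e).toEquiv]
  exact card_center_Omega_two _ two_ne_zero_three (polarNondeg_qPlus 4) (by simp) hneg

theorem nonempty_pomega_equiv :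
    Nonempty (Cfsg.POmega (ZMod 3) (Cfsg.quadFormPlus 4 (ZMod 3)) ≃* W8 ⧸ Subgroup.center W8) := by
  rw [← coe_qPlus]
  obtain ⟨φ, -⟩ := exists_model
  let e : Cfsg.Omega (ZMod 3) ⇑(qPlus 4 (ZMod 3)) ≃* W8 :=
    (φ.subgroupMap _).trans (MulEquiv.subgroupCongr (map_commutator_equiv φ))
  exact ⟨QuotientGroup.congr _ _ e (le_antisymm
    (by rintro _ ⟨z, hz, rfl⟩
        exact Subgroup.mem_center_iff.2 fun y => e.symm.injective (by
          simp only [map_mul, MonoidHom.coe_coe, MulEquiv.symm_apply_apply]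
          exact Subgroup.mem_center_iff.1 hz _))
    (fun z hz => ⟨e.symm z, Subgroup.mem_center_iff.2 fun y => e.injective (by
          simp only [map_mul, MulEquiv.apply_symm_apply]
          exact Subgroup.mem_center_iff.1 hz _), by simp⟩))⟩

end CfsgLib.SmallGroups.Omega8Three
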