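import Mathlib

/-!
A permutation action of the symmetric group of degree four on thirteen points containing three given
involutions has seven orbits under every point stabiliser.
-/

set_option autoImplicit false

namespace CfsgLib.SmallGroups.Omega8Three

open Equiv

/-- The permutation of the classes by the determinant one torus element. -/
def permT : Perm (Fin 13) := swap 5 6 * swap 7 8 * swap 9 10 * swap 11 12

/-- The permutation of the classes by the reflection. -/
def permR : Perm (Fin 13) := swap 5 7 * swap 6 8 * swap 11 12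

/-- The permutation of the classes by the similitude. -/
def permD : Perm (Fin 13) := swap 1 2 * swap 7 8 * swap 9 12 * swap 10 11

/-- The three non-trivial elements of the normal four-group acting on the classes. -/
def nPerm : Fin 3 → Perm (Fin 13) := ![permT, permD, permT * permD]

theorem perm_facts :
    permR * permR = 1 ∧ permD * permD = 1 ∧ (permR * permD) ^ 2 ≠ 1 ∧ (permR * permD) ^ 4 = 1 ∧
    (permR * permD) ^ 2 = permT ∧
    (Finset.univ.filter fun x => permR x = x).card = 7 ∧ (Finset.univ.filter fun x => permT x = x).card = 5 ∧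
    (∀ x, permT x = x → permD x = x → permR x = x) ∧
    (Finset.univ.filter fun x => permT x = x ∧ permD x = x).card = 3 := by
  decide +kernel

theorem nPerm_regular : ∀ x, ¬ (permT x = x ∧ permD x = x) → ∀ a b : Fin 3, a ≠ b →
    nPerm a x = x → nPerm b x ≠ x := by
  decide +kernel

theorem nPerm_free : ∀ x, (∀ a : Fin 3, nPerm a x ≠ x) → ∀ a b : Fin 3, a ≠ b → nPerm a x ≠ nPerm b x := by
  decide +kernel

theorem nPerm_transitive : ∀ x y, (∀ a : Fin 3, nPerm a x ≠ x) → (∀ a : Fin 3, nPerm a y ≠ y) →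
    x ≠ y → ∃ a : Fin 3, nPerm a x = y := by
  decide +kernel

theorem four_injective : ∀ σ z : Perm (Fin 4), σ ≠ 1 → z ^ 4 = 1 → z ^ 2 ≠ 1 →
    ∃ g h : Perm (Fin 4), g * σ * g⁻¹ * (h * σ * h⁻¹) = z ^ 2 := by
  decide +kernel

/-- A conjugate of `r`. -/
def IsCj (r σ : Perm (Fin 4)) : Prop := ∃ g, g * r * g⁻¹ = σ

instance instDecidableIsCj (r σ : Perm (Fin 4)) : Decidable (IsCj r σ) := by unfold IsCj; infer_instance

theorem four_inv : ∀ r d : Perm (Fin 4), r * r = 1 → d * d = 1 → (r * d) ^ 2 ≠ 1 → ¬ IsCj r ((r * d) ^ 2) →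
    ∀ σ, σ * σ = 1 → σ ≠ 1 → (∃ i, σ i = i) → IsCj r σ := by
  decide +kernel

/-- A pair generating a dihedral group of order eight, the first a transposition. -/
def GoodPair (r d : Perm (Fin 4)) : Prop :=
  r * r = 1 ∧ d * d = 1 ∧ (r * d) ^ 2 ≠ 1 ∧ ¬ IsCj r ((r * d) ^ 2) ∧ (r * d) ^ 4 = 1

instance instDecidableGoodPair (r d : Perm (Fin 4)) : Decidable (GoodPair r d) := by
  unfold GoodPair; infer_instance

/-- The three non-trivial elements of the normal four-group. -/
def nFour (r d : Perm (Fin 4)) : Fin 3 → Perm (Fin 4) := ![(r * d) ^ 2, d, (r * d) ^ 2 * d]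

theorem four_normal : ∀ r d : Perm (Fin 4), GoodPair r d →
    ∀ (g : Perm (Fin 4)) (a : Fin 3), ∃ b : Fin 3, g * nFour r d a * g⁻¹ = nFour r d b := by
  decide +kernel

theorem four_move : ∀ r d : Perm (Fin 4), GoodPair r d → ∀ (σ : Perm (Fin 4)) (a : Fin 3),
    σ ^ 3 = 1 → σ * nFour r d a = nFour r d a * σ → σ = 1 := by
  decide +kernel

/-- A product of two conjugates of `r`. -/
def IsCj2 (r σ : Perm (Fin 4)) : Prop := ∃ g h, g * r * g⁻¹ * (h * r * h⁻¹) = σ

instance instDecidableIsCj2 (r σ : Perm (Fin 4)) : Decidable (IsCj2 r σ) := by unfold IsCj2; infer_instance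

theorem four_gen : ∀ r d : Perm (Fin 4), GoodPair r d → ∀ σ : Perm (Fin 4), σ ^ 3 = 1 → σ ≠ 1 → IsCj2 r σ := by
  decide +kernel

/-- The number of fixed classes of an element of a point stabiliser. -/
def fixExpected (σ : Perm (Fin 4)) : ℕ := if σ = 1 then 13 else if σ * σ = 1 then 7 else 4

theorem stabilizer_facts : ∀ i : Fin 4,
    (∀ σ : Perm (Fin 4), σ i = i → σ = 1 ∨ σ * σ = 1 ∨ σ ^ 3 = 1) ∧
    (∑ σ ∈ Finset.univ.filter (fun σ : Perm (Fin 4) => σ i = i), fixExpected σ) = 42 ∧
    (Finset.univ.filter fun σ : Perm (Fin 4) => σ i = i).card = 6 := by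
  decide +kernel

/-- Seven orbits: in the form of representatives. -/
theorem seven_orbits (φ : Perm (Fin 4) →* Perm (Fin 13)) (hr : permR ∈ φ.range) (hd : permD ∈ φ.range)
    (i : Fin 4) :
    ∃ y : Fin 7 → Fin 13, (∀ a b, (∃ σ, σ i = i ∧ φ σ (y a) = y b) → a = b) ∧
      ∀ k, ∃ a σ, σ i = i ∧ φ σ k = y a := by
  classical
  obtain ⟨pr, pd, prd, prd4, prdT, fixR, fixT, pS0, cS0⟩ := perm_facts
  obtain ⟨r, hr⟩ := hr
  obtain ⟨d, hd⟩ := hd
  -- the homomorphism is injective
  have hinj : Function.Injective φ := by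
    refine (injective_iff_map_eq_one φ).2 fun σ hσ => by_contra fun hne => ?_
    have key : ∀ z : Perm (Fin 4), z ^ 4 = 1 → z ^ 2 ≠ 1 → φ (z ^ 2) = 1 := fun z h4 h2 => by
      obtain ⟨g, h, e⟩ := four_injective σ z hne h4 h2
      rw [← e]; simp [hσ]
    have hall : ∀ z : Perm (Fin 4), z ^ 4 = 1 ∨ z ^ 3 = 1 := by decide +kernel
    rcases hall (r * d) with h | h
    · by_cases h2 : (r * d) ^ 2 = 1
      · exact prd (by rw [← hr, ← hd, ← map_mul, ← map_pow, h2, map_one])
      · exact prd (by rw [← hr, ← hd, ← map_mul, ← map_pow]; exact key _ h h2)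
    · have h3 : (permR * permD) ^ 3 = 1 := by rw [← hr, ← hd, ← map_mul, ← map_pow, h, map_one]
      have h1 : permR * permD = 1 := by
        rw [pow_succ _ 3, h3, one_mul] at prd4; exact prd4
      exact prd (by rw [h1, one_pow])
  have r2 : r * r = 1 := hinj (by rw [map_mul, hr, pr, map_one])
  have d2 : d * d = 1 := hinj (by rw [map_mul, hd, pd, map_one])
  have rd2 : (r * d) ^ 2 ≠ 1 := fun h => prd (by rw [← hr, ← hd, ← map_mul, ← map_pow, h, map_one])
  have hT : φ ((r * d) ^ 2) = permT := by rw [map_pow, map_mul, hr, hd, prdT]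
  -- conjugates have equal fixed point counts
  have hcount : ∀ (g σ : Perm (Fin 4)), (Finset.univ.filter fun x => φ (g * σ * g⁻¹) x = x).card =
      (Finset.univ.filter fun x => φ σ x = x).card := by
    intro g σ
    refine Finset.card_equiv (φ g)⁻¹ fun x => ?_
    simp only [Finset.mem_filter, Finset.mem_univ, true_and, map_mul, map_inv, Perm.mul_apply]
    rw [← Perm.eq_inv_iff_eq]
  have hnc : ¬ IsCj r ((r * d) ^ 2) := by
    rintro ⟨g, hg⟩
    have := hcount g r
    rw [hg, hT, hr, fixR, fixT] at this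
    omega
  have rd4' : (r * d) ^ 4 = 1 := hinj (by rw [map_pow, map_mul, hr, hd, prd4, map_one])
  have hN := four_normal r d ⟨r2, d2, rd2, hnc, rd4'⟩
  have hinv := four_inv r d r2 d2 rd2 hnc
  have rd4 : (r * d) ^ 4 = 1 := hinj (by rw [map_pow, map_mul, hr, hd, prd4, map_one])
  have hmap : ∀ a, φ (nFour r d a) = nPerm a := by
    intro a; fin_cases a <;> simp [nFour, nPerm, hd, hT]
  -- the common fixed points
  have hS0 : ∀ g x, (permT x = x ∧ permD x = x) → (permT (φ g x) = φ g x ∧ permD (φ g x) = φ g x) := by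
    intro g x hx
    have hg : ∀ a, nPerm a (φ g x) = φ g x := by
      intro a
      obtain ⟨b, hb⟩ := hN g⁻¹ a
      have h1 : φ (g⁻¹ * nFour r d a * g⁻¹⁻¹) x = x := by
        rw [hb, hmap]
        fin_cases b <;> simp [nPerm, hx.1, hx.2]
      simp only [inv_inv, map_mul, map_inv, Perm.mul_apply, hmap] at h1
      exact Perm.inv_eq_iff_eq.1 h1
    exact ⟨hg 0, hg 1⟩
  have hconjR : ∀ g x, (permT x = x ∧ permD x = x) → φ (g * r * g⁻¹) x = x := by
    intro g x hx
    obtain ⟨h1, h2⟩ := hS0 g⁻¹ x hx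
    rw [map_mul, map_mul, hr, Perm.mul_apply, Perm.mul_apply, pS0 _ h1 h2, map_inv]
    simp
  -- the counts
  have hfix : ∀ σ : Perm (Fin 4), σ i = i → (Finset.univ.filter fun x => φ σ x = x).card = fixExpected σ := by
    intro σ hσ
    by_cases h1 : σ = 1
    · subst h1; simp [fixExpected]
    by_cases h2 : σ * σ = 1
    · obtain ⟨g, rfl⟩ := hinv σ h2 h1 ⟨i, hσ⟩
      rw [hcount, hr, fixR, fixExpected, if_neg h1, if_pos h2]
    have h3 : σ ^ 3 = 1 := ((stabilizer_facts i).1 σ hσ).resolve_left h1 |>.resolve_left h2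
    rw [fixExpected, if_neg h1, if_neg h2]
    have hmove : ∀ a, σ * nFour r d a * σ⁻¹ ≠ nFour r d a := fun a he =>
      h1 (four_move r d ⟨r2, d2, rd2, hnc, rd4⟩ σ a h3 (mul_inv_eq_iff_eq_mul.1 he))
    obtain ⟨g, h, e⟩ := four_gen r d ⟨r2, d2, rd2, hnc, rd4⟩ σ h3 h1
    -- fixed points of N
    have hA : ∀ x, (permT x = x ∧ permD x = x) → φ σ x = x := fun x hx => by
      rw [← e, map_mul, Perm.mul_apply, hconjR h x hx, hconjR g x hx]
    -- elsewhere a fixed point has trivial stabiliser in N
    have hB : ∀ x, ¬ (permT x = x ∧ permD x = x) → φ σ x = x → ∀ a, nPerm a x ≠ x := by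
      intro x hx hfx a hvx
      obtain ⟨b, hb⟩ := hN σ a
      have hw : nPerm b x = x := by
        have : (φ σ)⁻¹ x = x := Perm.inv_eq_iff_eq.2 hfx.symm
        rw [← hmap, ← hb, map_mul, map_mul, Perm.mul_apply, Perm.mul_apply, map_inv, this, hmap, hvx, hfx]
      exact nPerm_regular x hx a b (fun he => hmove a (by rw [hb, he])) hvx hw
    have hC : ∀ x y, ¬ (permT x = x ∧ permD x = x) → ¬ (permT y = y ∧ permD y = y) →
        φ σ x = x → φ σ y = y → x = y := by
      intro x y hx hy hfx hfy
      by_contra hne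
      obtain ⟨a, hvx⟩ := nPerm_transitive x y (hB x hx hfx) (hB y hy hfy) hne
      obtain ⟨b, hb⟩ := hN σ a
      have hw : nPerm b x = y := by
        have : (φ σ)⁻¹ x = x := Perm.inv_eq_iff_eq.2 hfx.symm
        rw [← hmap, ← hb, map_mul, map_mul, Perm.mul_apply, Perm.mul_apply, map_inv, this, hmap, hvx, hfy]
      exact nPerm_free x (hB x hx hfx) a b (fun he => hmove a (by rw [hb, he])) (hvx.trans hw.symm)
    haveI : Fact (Nat.Prime 3) := ⟨Nat.prime_three⟩
    have hsup : ∀ x, φ σ x = x ↔ x ∉ (φ σ).support := fun x => by simp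
    have hmod : 3 ∣ (φ σ).support.card := by
      rw [← Equiv.Perm.sum_cycleType]
      refine Multiset.dvd_sum fun n hn => ?_
      have hdvd : n ∣ 3 := (Equiv.Perm.dvd_of_mem_cycleType hn).trans
        (orderOf_dvd_of_pow_eq_one (by rw [← map_pow, h3, map_one]))
      rcases (Nat.dvd_prime Nat.prime_three).1 hdvd with hn1 | hn1
      · have := Equiv.Perm.two_le_of_mem_cycleType hn; omega
      · exact hn1 ▸ dvd_rfl
    have hcompl : (Finset.univ.filter fun x => φ σ x = x).card + (φ σ).support.card = 13 := by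
      rw [show (Finset.univ.filter fun x => φ σ x = x) = (φ σ).supportᶜ by ext x; simp,
        Finset.card_compl, Fintype.card_fin]
      have := Finset.card_le_univ (φ σ).support
      simp only [Fintype.card_fin] at this
      omega
    set F := Finset.univ.filter fun x => φ σ x = x with hF
    have hlo : 3 ≤ F.card := cS0 ▸ Finset.card_le_card (fun x hx => by
      simp only [Finset.mem_filter, Finset.mem_univ, true_and, hF] at hx ⊢; exact hA x hx)
    have hhi : F.card ≤ 4 := by
      rw [← Finset.card_filter_add_card_filter_not (s := F) (fun x => permT x = x ∧ permD x = x)]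
      refine le_trans (Nat.add_le_add (b := 3) (d := 1) ?_ (Finset.card_le_one.2 fun x hx y hy => ?_)) le_rfl
      · exact cS0 ▸ Finset.card_le_card (fun x hx => by
          simp only [Finset.mem_filter, Finset.mem_univ, true_and] at hx ⊢; exact hx.2)
      · simp only [Finset.mem_filter, hF, Finset.mem_univ, true_and] at hx hy
        exact hC x y hx.2 hy.2 hx.1 hy.1
    omega
  -- counting orbits
  letI act : MulAction (MulAction.stabilizer (Perm (Fin 4)) i) (Fin 13) :=
    MulAction.compHom _ (φ.comp (MulAction.stabilizer (Perm (Fin 4)) i).subtype)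
  letI : Fintype (MulAction.stabilizer (Perm (Fin 4)) i) := Fintype.ofFinite _
  letI : Fintype (MulAction.orbitRel.Quotient (MulAction.stabilizer (Perm (Fin 4)) i) (Fin 13)) := Fintype.ofFinite _
  have hB := MulAction.sum_card_fixedBy_eq_card_orbits_mul_card_group (MulAction.stabilizer (Perm (Fin 4)) i) (Fin 13)
  obtain ⟨-, hsum, hcard⟩ := stabilizer_facts i
  have hs : ∑ g : MulAction.stabilizer (Perm (Fin 4)) i, Fintype.card (MulAction.fixedBy (Fin 13) g) =
      ∑ g : MulAction.stabilizer (Perm (Fin 4)) i, fixExpected g := by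
    refine Finset.sum_congr rfl fun g _ => ?_
    rw [← hfix g g.2, ← Set.toFinset_card]
    congr 1
    ext x
    simp
    rfl
  have h42 : ∑ g : MulAction.stabilizer (Perm (Fin 4)) i, fixExpected g = 42 := by
    rw [← hsum]
    exact (Finset.sum_subtype _ (fun σ => by simp [MulAction.mem_stabilizer_iff]) fixExpected).symm
  have h6 : Fintype.card (MulAction.stabilizer (Perm (Fin 4)) i) = 6 := by
    rw [← hcard]
    exact Fintype.card_of_subtype _ fun σ => by simp [MulAction.mem_stabilizer_iff]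
  rw [hs, h42, h6] at hB
  have h7 : Fintype.card (MulAction.orbitRel.Quotient (MulAction.stabilizer (Perm (Fin 4)) i) (Fin 13)) = 7 := by
    exact Nat.eq_of_mul_eq_mul_right (by norm_num : 0 < 6) (hB.symm.trans (by norm_num))
  let e := (Fintype.equivFinOfCardEq h7).symm
  refine ⟨fun a => (e a).out, ?_, fun k => ?_⟩
  · rintro a b ⟨σ, hσ, h⟩
    have : Quotient.mk'' ((e b).out) = (Quotient.mk'' ((e a).out) :
        MulAction.orbitRel.Quotient (MulAction.stabilizer (Perm (Fin 4)) i) (Fin 13)) := by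
      refine Quotient.sound' ?_
      exact ⟨⟨σ, hσ⟩, h⟩
    rw [Quotient.out_eq', Quotient.out_eq'] at this
    exact (e.injective this).symm
  · let q : MulAction.orbitRel.Quotient (MulAction.stabilizer (Perm (Fin 4)) i) (Fin 13) := Quotient.mk'' k
    have hq : Quotient.mk'' ((e (e.symm q)).out) = q := by rw [Quotient.out_eq', Equiv.apply_symm_apply]
    obtain ⟨g, hg⟩ := Quotient.exact' hq
    exact ⟨e.symm q, g, g.2, hg⟩

end CfsgLib.SmallGroups.Omega8Three
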