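import Cfsg.Agent.Lib.SmallGroups.Omega8Three.Distinct
import Cfsg.Agent.Lib.SmallGroups.Omega8Three.Perm
import Cfsg.Prelude.Def_KGroupFacts

/-!
The thirteen classes of subgroups of order three of the simple orthogonal group of plus type in eight
variables over the field with three elements, and the action of the outer automorphisms on them.
-/

set_option autoImplicit false

namespace CfsgLib.SmallGroups.Omega8Three

open Matrix

/-- The simple group. -/
abbrev Q8 : Type := W8 ⧸ Subgroup.center W8

/-- The representatives in the commutator subgroup. -/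
noncomputable def repW (k : Fin 13) : W8 := ⟨repElt k, repElt_mem k⟩

/-- The representatives in the simple group. -/
noncomputable def repQ (k : Fin 13) : Q8 := QuotientGroup.mk' (Subgroup.center W8) (repW k)

/-- The representative subgroups. -/
noncomputable def repSub (k : Fin 13) : Subgroup Q8 := Subgroup.zpowers (repQ k)

/-- Conjugate subgroups. -/
def SubConj {G : Type*} [Group G] (X Y : Subgroup G) : Prop := ∃ q : G, X.map (MulAut.conj q).toMonoidHom = Y

theorem map_conj_mul {G : Type*} [Group G] (a b : G) (X : Subgroup G) :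
    X.map (MulAut.conj (a * b)).toMonoidHom =
      (X.map (MulAut.conj b).toMonoidHom).map (MulAut.conj a).toMonoidHom := by
  rw [Subgroup.map_map]
  congr 1
  exact MonoidHom.ext fun x => by simp [mul_assoc]

theorem SubConj.refl {G : Type*} [Group G] (X : Subgroup G) : SubConj X X :=
  ⟨1, by rw [map_one]; exact Subgroup.map_id X⟩

theorem SubConj.symm {G : Type*} [Group G] {X Y : Subgroup G} (h : SubConj X Y) : SubConj Y X := by
  obtain ⟨q, rfl⟩ := h
  exact ⟨q⁻¹, by rw [← map_conj_mul, inv_mul_cancel, map_one]; exact Subgroup.map_id X⟩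

theorem SubConj.trans {G : Type*} [Group G] {X Y Z : Subgroup G} (h : SubConj X Y) (h' : SubConj Y Z) :
    SubConj X Z := by
  obtain ⟨q, rfl⟩ := h
  obtain ⟨q', rfl⟩ := h'
  exact ⟨q' * q, map_conj_mul q' q X⟩

theorem SubConj.map {G H : Type*} [Group G] [Group H] (e : G ≃* H) {X Y : Subgroup G} (h : SubConj X Y) :
    SubConj (X.map e.toMonoidHom) (Y.map e.toMonoidHom) := by
  obtain ⟨q, rfl⟩ := h
  refine ⟨e q, ?_⟩
  rw [Subgroup.map_map, Subgroup.map_map]
  congr 1
  exact MonoidHom.ext fun x => by simp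

theorem zpowers_eq_of_mem {G : Type*} [Group G] [Finite G] {x y : G} (hx : orderOf x = 3) (hy : orderOf y = 3)
    (h : y = x ∨ y = x ^ 2) : Subgroup.zpowers y = Subgroup.zpowers x := by
  refine Subgroup.eq_of_le_of_card_ge ?_ (by rw [Nat.card_zpowers, Nat.card_zpowers, hx, hy])
  rw [Subgroup.zpowers_le]
  rcases h with rfl | rfl
  · exact Subgroup.mem_zpowers _
  · exact Subgroup.npow_mem_zpowers _ _

theorem center_sq {z : W8} (hz : z ∈ Subgroup.center W8) : z ^ 2 = 1 := by
  have := congrArg Subtype.val (pow_card_eq_one' (x := (⟨z, hz⟩ : Subgroup.center W8)))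
  rwa [card_center_W8, Subgroup.coe_pow, Subgroup.coe_one] at this

theorem eq_one_of_center {z : W8} (hz : z ∈ Subgroup.center W8) (h3 : z ^ 3 = 1) : z = 1 := by
  rwa [pow_succ, center_sq hz, one_mul] at h3

theorem repW_cube (k : Fin 13) : repW k ^ 3 = 1 := Subtype.ext (by
  rw [Subgroup.coe_pow, Subgroup.coe_one]; exact repElt_cube k)

theorem orderOf_repQ (k : Fin 13) : orderOf (repQ k) = 3 := by
  refine orderOf_eq_prime (by rw [repQ, ← map_pow, repW_cube, map_one]) fun h => ?_
  refine repElt_ne_one k (congrArg Subtype.val (eq_one_of_center ?_ (repW_cube k)))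
  exact (QuotientGroup.eq_one_iff _).1 h

theorem card_repSub (k : Fin 13) : Nat.card (repSub k) = 3 := by
  rw [repSub, Nat.card_zpowers, orderOf_repQ]

theorem exists_subConj_rep {X : Subgroup Q8} (hX : Nat.card X = 3) : ∃ k, SubConj X (repSub k) := by
  obtain ⟨y, hyX, hy1⟩ := (X.bot_or_exists_ne_one).resolve_left (fun h => by
    rw [h, Subgroup.card_bot] at hX; exact absurd hX (by norm_num))
  have hyo : orderOf y = 3 := by
    have h1 : orderOf (⟨y, hyX⟩ : X) ∣ 3 := (orderOf_dvd_natCard (⟨y, hyX⟩ : X)).trans (dvd_of_eq hX)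
    rw [← Subgroup.orderOf_coe] at h1
    exact ((Nat.dvd_prime Nat.prime_three).1 h1).resolve_left (mt orderOf_eq_one_iff.1 hy1)
  have hXeq : Subgroup.zpowers y = X :=
    Subgroup.eq_of_le_of_card_ge (Subgroup.zpowers_le.2 hyX) (by rw [hX, Nat.card_zpowers, hyo])
  obtain ⟨x₀, hx₀⟩ := QuotientGroup.mk'_surjective (Subgroup.center W8) y
  have hy3 : y ^ 3 = 1 := orderOf_dvd_iff_pow_eq_one.1 hyo.dvd
  have hz : x₀ ^ 3 ∈ Subgroup.center W8 := (QuotientGroup.eq_one_iff _).1 (by
    change QuotientGroup.mk' (Subgroup.center W8) (x₀ ^ 3) = 1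
    rw [map_pow, hx₀, hy3])
  set x := x₀ ^ 4 with hx
  have hx3 : x ^ 3 = 1 := by
    rw [hx, ← pow_mul, show 4 * 3 = 3 * 2 * 2 by norm_num, pow_mul, pow_mul, center_sq hz, one_pow]
  have hxy : QuotientGroup.mk' (Subgroup.center W8) x = y := by
    rw [hx, map_pow, hx₀, pow_succ, hy3, one_mul]
  have hx1 : (x : O8) ≠ 1 := fun h => hy1 (by rw [← hxy, show x = 1 from Subtype.ext h, map_one])
  obtain ⟨k, w, hw, hwk⟩ := exists_conjTo (x := (x : O8)) (by rw [← Subgroup.coe_pow, hx3, Subgroup.coe_one]) hx1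
  refine ⟨k, QuotientGroup.mk' (Subgroup.center W8) ⟨w, hw⟩, ?_⟩
  rw [← hXeq, MonoidHom.map_zpowers]
  have hor : orderOf ((MulAut.conj (QuotientGroup.mk' (Subgroup.center W8) (⟨w, hw⟩ : W8))).toMonoidHom y) = 3 :=
    (orderOf_injective _ (MulAut.conj _).injective y).trans hyo
  refine zpowers_eq_of_mem (orderOf_repQ k) hor ?_
  rcases hwk with h | h
  · left
    rw [repQ, show repW k = ⟨w, hw⟩ * x * ⟨w, hw⟩⁻¹ from Subtype.ext h.symm, map_mul, map_mul, map_inv, hxy]
    rfl
  · right
    rw [repQ, ← map_pow, show repW k ^ 2 = ⟨w, hw⟩ * x * ⟨w, hw⟩⁻¹ from Subtype.ext h.symm, map_mul, map_mul,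
      map_inv, hxy]
    rfl

theorem eq_of_subConj {i j : Fin 13} (h : SubConj (repSub i) (repSub j)) : i = j := by
  obtain ⟨q, hq⟩ := h
  obtain ⟨⟨w, hw⟩, rfl⟩ := QuotientGroup.mk'_surjective (Subgroup.center W8) q
  rw [repSub, repSub, MonoidHom.map_zpowers] at hq
  set π := QuotientGroup.mk' (Subgroup.center W8) with hπ
  set v : W8 := ⟨w, hw⟩ * repW i * ⟨w, hw⟩⁻¹ with hv
  have hπv : π v ∈ Subgroup.zpowers (repQ j) := by
    rw [← hq, hv, map_mul, map_mul, map_inv]
    exact Subgroup.mem_zpowers _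
  have hv3 : v ^ 3 = 1 := by rw [hv, conj_pow, repW_cube, mul_one, mul_inv_cancel]
  rw [← mem_powers_iff_mem_zpowers] at hπv
  obtain ⟨n, hn⟩ := hπv
  have hn' : repQ j ^ n = π (repW j ^ (n % 3)) := by
    rw [map_pow]; exact (orderOf_repQ j ▸ (pow_mod_orderOf (repQ j) n)).symm
  simp only at hn
  rw [hn'] at hn
  have hz : (repW j ^ (n % 3))⁻¹ * v ∈ Subgroup.center W8 := (QuotientGroup.eq_one_iff _).1 (by
    change π _ = 1
    rw [map_mul, map_inv, hn, inv_mul_cancel])
  have he : v = repW j ^ (n % 3) := by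
    refine (inv_mul_eq_one.1 (eq_one_of_center hz ?_)).symm
    have hc : Commute (repW j ^ (n % 3))⁻¹ v := by
      have h1 := Subgroup.mem_center_iff.1 hz (repW j ^ (n % 3))
      rw [mul_inv_cancel_left] at h1
      change (repW j ^ (n % 3))⁻¹ * v = v * (repW j ^ (n % 3))⁻¹
      exact (eq_mul_inv_iff_mul_eq.2 h1.symm)
    rw [hc.mul_pow, hv3, mul_one, inv_pow, ← pow_mul, mul_comm, pow_mul, repW_cube, one_pow, inv_one]
  have hne : n % 3 ≠ 0 := fun h0 => by
    rw [h0, pow_zero, hv] at he
    exact repElt_ne_one i (congrArg Subtype.val (conj_eq_one_iff.1 he))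
  refine eq_of_conjTo ⟨w, hw, ?_⟩
  rcases (show n % 3 = 1 ∨ n % 3 = 2 by omega) with h | h <;> rw [h] at he
  · left
    rw [pow_one] at he
    exact congrArg Subtype.val he
  · right
    exact congrArg Subtype.val he

theorem exists_image (α : MulAut Q8) (k : Fin 13) : ∃ j, SubConj ((repSub k).map α.toMonoidHom) (repSub j) :=
  exists_subConj_rep (by
    rw [Subgroup.card_map_of_injective α.injective, card_repSub])

/-- The class of the image of a class. -/
noncomputable def classMap (α : MulAut Q8) (k : Fin 13) : Fin 13 := (exists_image α k).choose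

theorem classMap_spec (α : MulAut Q8) (k : Fin 13) :
    SubConj ((repSub k).map α.toMonoidHom) (repSub (classMap α k)) := (exists_image α k).choose_spec

theorem classMap_eq {α : MulAut Q8} {k j : Fin 13} (h : SubConj ((repSub k).map α.toMonoidHom) (repSub j)) :
    classMap α k = j := eq_of_subConj ((classMap_spec α k).symm.trans h)

theorem classMap_one : classMap 1 = id := funext fun k => classMap_eq (by
  rw [show (1 : MulAut Q8).toMonoidHom = MonoidHom.id _ from rfl, Subgroup.map_id]; exact SubConj.refl _)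

theorem classMap_mul (α β : MulAut Q8) (k : Fin 13) : classMap (α * β) k = classMap α (classMap β k) := by
  refine classMap_eq (SubConj.trans ?_ (classMap_spec α _))
  have := (classMap_spec β k).map α
  rwa [Subgroup.map_map] at this

/-- The action of the automorphisms on the classes. -/
noncomputable def classHom : MulAut Q8 →* Equiv.Perm (Fin 13) where
  toFun α :=
    { toFun := classMap α
      invFun := classMap α⁻¹
      left_inv := fun k => by rw [← classMap_mul, inv_mul_cancel, classMap_one]; rfl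
      right_inv := fun k => by rw [← classMap_mul, mul_inv_cancel, classMap_one]; rfl }
  map_one' := Equiv.ext fun k => congrFun classMap_one k
  map_mul' α β := Equiv.ext fun k => classMap_mul α β k

theorem classHom_apply (α : MulAut Q8) (k : Fin 13) : classHom α k = classMap α k := rfl

theorem inn_le_ker : Cfsg.Inn Q8 ≤ classHom.ker := by
  rintro _ ⟨q, rfl⟩
  exact MonoidHom.mem_ker.2 (Equiv.ext fun k => classMap_eq (SubConj.symm ⟨q, rfl⟩))

/-- The action of the outer automorphisms on the classes. -/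
noncomputable def outHom : Cfsg.Out Q8 →* Equiv.Perm (Fin 13) :=
  QuotientGroup.lift (Cfsg.Inn Q8) classHom inn_le_ker

theorem exists_aut {M : M8} (h1 : M * M = 1) (hG : Mᵀ * G8 * M = G8 ∨ Mᵀ * G8 * M = -G8)
    {tbl : List (ℕ × List ℕ)} (hT : checkTwist (rows M) tbl = true) :
    ∃ α : MulAut Q8, ∀ k, classHom α k = twistTgt tbl k := by
  have hmem : ∀ g : O8, ∃ g' : O8, val8 g' = M * val8 g * M := by
    intro g
    refine exists_of_gram ?_
    rw [transpose_mul, transpose_mul]
    have e : Mᵀ * ((val8 g)ᵀ * Mᵀ) * G8 * (M * val8 g * M) =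
        Mᵀ * ((val8 g)ᵀ * (Mᵀ * G8 * M) * val8 g) * M := by simp only [Matrix.mul_assoc]
    rcases hG with hG | hG <;> rw [e, hG]
    · rw [val8_mem, hG]
    · simp only [Matrix.mul_neg, Matrix.neg_mul, val8_mem]
      rw [← neg_eq_iff_eq_neg] at hG
      exact hG
  choose f hf using hmem
  have hMM : ∀ X : M8, M * (M * X) = X := fun X => by rw [← mul_assoc, h1, one_mul]
  let a : MulAut O8 :=
    { toFun := f
      invFun := f
      left_inv := fun g => val8_injective (by rw [hf, hf]; simp only [mul_assoc, hMM, h1, mul_one])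
      right_inv := fun g => val8_injective (by rw [hf, hf]; simp only [mul_assoc, hMM, h1, mul_one])
      map_mul' := fun g g' => val8_injective (by rw [map_mul, hf, hf, hf, map_mul]; simp only [mul_assoc, hMM]) }
  let b : MulAut W8 := (a.subgroupMap W8).trans (MulEquiv.subgroupCongr (CfsgLib.Classical.map_commutator_equiv a))
  let α : MulAut Q8 := QuotientGroup.congr _ _ b (Subgroup.characteristic_iff_map_eq.1 inferInstance b)
  refine ⟨α, fun k => classMap_eq ?_⟩
  obtain ⟨w, hw, h⟩ := exists_twist_mat hT k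
  refine ⟨QuotientGroup.mk' (Subgroup.center W8) ⟨w, hw⟩, ?_⟩
  rw [repSub, repSub, MonoidHom.map_zpowers, MonoidHom.map_zpowers]
  have hα : α (repQ k) = QuotientGroup.mk' (Subgroup.center W8) (b (repW k)) := rfl
  have hb : val8 ((b (repW k) : W8) : O8) = M * repMat k * M := (hf _).trans (by rw [repW, val_repElt])
  set v : W8 := ⟨w, hw⟩ * b (repW k) * ⟨w, hw⟩⁻¹ with hv
  have hgen : (MulAut.conj (QuotientGroup.mk' (Subgroup.center W8) (⟨w, hw⟩ : W8))).toMonoidHom
      (α.toMonoidHom (repQ k)) = QuotientGroup.mk' (Subgroup.center W8) v := by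
    rw [hv, map_mul, map_mul, map_inv]
    rfl
  have hor : orderOf (QuotientGroup.mk' (Subgroup.center W8) v) = 3 := by
    rw [← hgen]
    exact ((orderOf_injective _ (MulAut.conj _).injective _).trans
      (orderOf_injective _ α.injective _)).trans (orderOf_repQ k)
  rw [hgen]
  refine zpowers_eq_of_mem (orderOf_repQ _) hor ?_
  rcases h with h | h
  · refine Or.inl (congrArg _ (Subtype.ext (mul_inv_eq_iff_eq_mul.2 (val8_injective ?_))))
    simp only [Subgroup.coe_mul, map_mul, hb]
    simp only [repW, val_repElt]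
    exact h
  · refine Or.inr ?_
    rw [repQ, ← map_pow]
    refine congrArg _ (Subtype.ext (mul_inv_eq_iff_eq_mul.2 (val8_injective ?_)))
    simp only [Subgroup.coe_mul, map_mul, hb, pow_two]
    simp only [repW, val_repElt]
    exact h

/-- The similitude matrix. -/
def dMat : M8 := Matrix.diagonal ![1, 1, 1, 1, 2, 2, 2, 2]

theorem checkTwist_d : checkTwist (rows dMat) dTwist = true := by decide +kernel

theorem aut_facts : tMatᵀ * G8 * tMat = G8 ∧ dMatᵀ * G8 * dMat = -G8 ∧ dMat * dMat = 1 ∧
    (∀ k, twistTgt rTwist k = permR k) ∧ (∀ k, twistTgt dTwist k = permD k) := by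
  decide +kernel

theorem perm_mem_range : permR ∈ outHom.range ∧ permD ∈ outHom.range := by
  obtain ⟨-, hd, hd2, hR, hD⟩ := aut_facts
  constructor
  · obtain ⟨α, hα⟩ := exists_aut mat_facts.2.2.1 (Or.inl mat_facts.1) checkTwist_r
    exact ⟨QuotientGroup.mk α, Equiv.ext fun k => (hα k).trans (hR k)⟩
  · obtain ⟨α, hα⟩ := exists_aut hd2 (Or.inr hd) checkTwist_d
    exact ⟨QuotientGroup.mk α, Equiv.ext fun k => (hα k).trans (hD k)⟩

end CfsgLib.SmallGroups.Omega8Three
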