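import Cfsg.Agent.Lib.SmallGroups.Omega8Three.Group

/-!
The subgroup of elements upper unitriangular on a maximal totally singular subspace: a Sylow
3-subgroup, parametrised by a Levi factor and an alternating matrix.
-/

set_option autoImplicit false

namespace CfsgLib.SmallGroups.Omega8Three

open Matrix

/-- Six scalars. -/
abbrev T6 : Type := Fin 6 → ZMod 3

/-- Square matrices of size four. -/
abbrev M4 : Type := Matrix (Fin 4) (Fin 4) (ZMod 3)

/-- Unitriangular matrices. -/
def uniMat (a : T6) : M4 :=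
  !![1, a 0, a 1, a 2;
     0, 1, a 3, a 4;
     0, 0, 1, a 5;
     0, 0, 0, 1]

/-- Their inverse transposes. -/
def uniDual (a : T6) : M4 :=
  !![1, 0, 0, 0;
     -a 0, 1, 0, 0;
     a 0 * a 3 - a 1, -a 3, 1, 0;
     a 0 * a 4 + a 1 * a 5 - a 2 - a 0 * a 3 * a 5, a 3 * a 5 - a 4, -a 5, 1]

/-- Alternating matrices. -/
def skewMat (s : T6) : M4 :=
  !![0, s 0, s 1, s 2;
     -s 0, 0, s 3, s 4;
     -s 1, -s 3, 0, s 5;
     -s 2, -s 4, -s 5, 0]

/-- A matrix from four blocks. -/
def blk (A B C D : M4) : M8 :=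
  Matrix.of fun i k =>
    if hi : i.val < 4 then (if hk : k.val < 4 then A ⟨i, hi⟩ ⟨k, hk⟩ else B ⟨i, hi⟩ ⟨k.val - 4, by omega⟩)
    else (if hk : k.val < 4 then C ⟨i.val - 4, by omega⟩ ⟨k, hk⟩ else D ⟨i.val - 4, by omega⟩ ⟨k.val - 4, by omega⟩)

theorem blk_eq (A B C D : M4) :
    blk A B C D = (Matrix.fromBlocks A B C D).submatrix flagEquiv.symm flagEquiv.symm := by
  ext i k
  fin_cases i <;> fin_cases k <;> rfl

/-- The four blocks. -/
def blA (M : M8) : M4 := M.submatrix (Fin.castLE (by norm_num)) (Fin.castLE (by norm_num))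
def blB (M : M8) : M4 := M.submatrix (Fin.castLE (by norm_num)) (fun k => ⟨k.val + 4, by omega⟩)
def blC (M : M8) : M4 := M.submatrix (fun k => ⟨k.val + 4, by omega⟩) (Fin.castLE (by norm_num))
def blD (M : M8) : M4 := M.submatrix (fun k => ⟨k.val + 4, by omega⟩) (fun k => ⟨k.val + 4, by omega⟩)

theorem blA_blk (A B C D : M4) : blA (blk A B C D) = A := by
  ext i k; fin_cases i <;> fin_cases k <;> simp [blA, blk]

theorem blB_blk (A B C D : M4) : blB (blk A B C D) = B := by
  ext i k; fin_cases i <;> fin_cases k <;> simp [blB, blk]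

theorem blC_blk (A B C D : M4) : blC (blk A B C D) = C := by
  ext i k; fin_cases i <;> fin_cases k <;> simp [blC, blk]

theorem blD_blk (A B C D : M4) : blD (blk A B C D) = D := by
  ext i k; fin_cases i <;> fin_cases k <;> simp [blD, blk]

theorem blk_eta (M : M8) : blk (blA M) (blB M) (blC M) (blD M) = M := by
  ext i k; fin_cases i <;> fin_cases k <;> rfl

theorem blk_mul (A B C D A' B' C' D' : M4) :
    blk A B C D * blk A' B' C' D' =
      blk (A * A' + B * C') (A * B' + B * D') (C * A' + D * C') (C * B' + D * D') := by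
  rw [blk_eq, blk_eq, blk_eq, submatrix_mul_equiv, fromBlocks_multiply]

theorem blk_transpose (A B C D : M4) : (blk A B C D)ᵀ = blk Aᵀ Cᵀ Bᵀ Dᵀ := by
  ext i k; fin_cases i <;> fin_cases k <;> simp [blk]

theorem blk_one : blk 1 0 0 1 = 1 := by decide +kernel

theorem G8_eq : G8 = blk 0 1 1 0 := by decide +kernel

theorem blk_inj {A B C D A' B' C' D' : M4} (h : blk A B C D = blk A' B' C' D') :
    A = A' ∧ B = B' ∧ C = C' ∧ D = D' :=
  ⟨by rw [← blA_blk A B C D, h, blA_blk], by rw [← blB_blk A B C D, h, blB_blk],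
    by rw [← blC_blk A B C D, h, blC_blk], by rw [← blD_blk A B C D, h, blD_blk]⟩

/-- The Gram condition for an upper block triangular matrix. -/
theorem gram_blk_iff (A B D : M4) :
    (blk A B 0 D)ᵀ * G8 * blk A B 0 D = G8 ↔ Aᵀ * D = 1 ∧ Bᵀ * D + Dᵀ * B = 0 := by
  rw [blk_transpose, G8_eq, blk_mul, blk_mul]
  simp only [mul_zero, zero_mul, add_zero, zero_add, mul_one, transpose_zero]
  constructor
  · intro h
    obtain ⟨-, h2, -, h4⟩ := blk_inj h
    exact ⟨h2, by rw [← h4, add_comm]⟩
  · rintro ⟨h2, h4⟩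
    rw [h2, add_comm (Dᵀ * B) (Bᵀ * D), h4]
    congr 1
    have := congrArg Matrix.transpose h2
    rwa [transpose_mul, transpose_one, transpose_transpose] at this

theorem uni_inv (a : T6) : (uniMat a)ᵀ * uniDual a = 1 := by
  ext i k
  fin_cases i <;> fin_cases k <;> simp [uniMat, uniDual, Matrix.mul_apply, Fin.sum_univ_four] <;> ring

/-- The Levi factor. -/
def aMat (a : T6) : M8 := blk (uniMat a) 0 0 (uniDual a)

/-- The alternating factor. -/
def nMat (s : T6) : M8 := blk 1 (skewMat s) 0 1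

theorem skewMat_transpose (s : T6) : (skewMat s)ᵀ = -skewMat s := by
  ext i k; fin_cases i <;> fin_cases k <;> simp [skewMat]

theorem aMat_gram (a : T6) : (aMat a)ᵀ * G8 * aMat a = G8 := by
  rw [aMat, gram_blk_iff]
  exact ⟨uni_inv a, by simp⟩

theorem nMat_gram (s : T6) : (nMat s)ᵀ * G8 * nMat s = G8 := by
  rw [nMat, gram_blk_iff, skewMat_transpose]
  simp

theorem aMat_mul_nMat (a s : T6) :
    aMat a * nMat s = blk (uniMat a) (uniMat a * skewMat s) 0 (uniDual a) := by
  rw [aMat, nMat, blk_mul]; simp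

/-- The condition of being unitriangular. -/
def IsUni4 (M : M4) : Prop := ∀ i k : Fin 4, (k < i → M i k = 0) ∧ (k = i → M i k = 1)

theorem uniMat_isUni4 (a : T6) : IsUni4 (uniMat a) := by
  intro i k
  fin_cases i <;> fin_cases k <;> simp [uniMat]

theorem IsUni4.eq {M : M4} (h : IsUni4 M) :
    M = uniMat ![M 0 1, M 0 2, M 0 3, M 1 2, M 1 3, M 2 3] := by
  ext i k
  fin_cases i <;> fin_cases k <;>
    first
      | rfl
      | exact (h _ _).1 (by decide)
      | exact (h _ _).2 rfl

theorem IsUni4.one : IsUni4 (1 : M4) := fun _ _ =>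
  ⟨fun h => Matrix.one_apply_ne h.ne', fun h => by subst h; exact Matrix.one_apply_eq _⟩

theorem IsUni4.mul {X Y : M4} (hX : IsUni4 X) (hY : IsUni4 Y) : IsUni4 (X * Y) := by
  intro i k
  constructor
  · intro h
    rw [Matrix.mul_apply]
    refine Finset.sum_eq_zero fun j _ => ?_
    rcases lt_or_ge j i with h' | h'
    · rw [(hX i j).1 h', zero_mul]
    · rw [(hY j k).1 (lt_of_lt_of_le h h'), mul_zero]
  · rintro rfl
    rw [Matrix.mul_apply, Finset.sum_eq_single k, (hX k k).2 rfl, (hY k k).2 rfl, one_mul]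
    · intro j _ hj
      rcases lt_or_gt_of_ne hj with h' | h'
      · rw [(hX k j).1 h', zero_mul]
      · rw [(hY j k).1 h', mul_zero]
    · intro h; exact absurd (Finset.mem_univ k) h

/-- Membership in the Sylow subgroup. -/
def IsUni8 (M : M8) : Prop := IsUni4 (blA M) ∧ blC M = 0

theorem IsUni8.mul {X Y : M8} (hX : IsUni8 X) (hY : IsUni8 Y) : IsUni8 (X * Y) := by
  have h := blk_mul (blA X) (blB X) (blC X) (blD X) (blA Y) (blB Y) (blC Y) (blD Y)
  rw [blk_eta, blk_eta, hX.2, hY.2] at h
  simp only [mul_zero, zero_mul, add_zero, zero_add] at h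
  exact ⟨by rw [h, blA_blk]; exact hX.1.mul hY.1, by rw [h, blC_blk]⟩

/-- The Sylow subgroup. -/
noncomputable def U8 : Subgroup O8 :=
  let S : Submonoid O8 :=
    { carrier := {g | IsUni8 (val8 g)}
      one_mem' := by
        change IsUni8 (val8 1)
        rw [map_one, ← blk_one]
        exact ⟨by rw [blA_blk]; exact IsUni4.one, blC_blk _ _ _ _⟩
      mul_mem' := fun {a b} ha hb => by
        change IsUni8 (val8 (a * b))
        rw [map_mul]; exact IsUni8.mul ha hb }
  { S with
    inv_mem' := fun {g} hg => by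
      have : g⁻¹ = g ^ (orderOf g - 1) := inv_eq_of_mul_eq_one_right (by
        rw [← pow_succ', Nat.sub_add_cancel (orderOf_pos g), pow_orderOf_eq_one])
      rw [this]
      exact S.pow_mem hg _ }

theorem mem_U8 {g : O8} : g ∈ U8 ↔ IsUni8 (val8 g) := Iff.rfl

theorem exists_factors (p : T6 × T6) : ∃ u : U8, val8 (u : O8) = aMat p.1 * nMat p.2 := by
  obtain ⟨u, hu⟩ := exists_of_gram (aMat_gram p.1)
  obtain ⟨v, hv⟩ := exists_of_gram (nMat_gram p.2)
  refine ⟨⟨u * v, mem_U8.2 ?_⟩, by rw [map_mul, hu, hv]⟩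
  rw [map_mul, hu, hv, aMat_mul_nMat]
  exact ⟨by rw [blA_blk]; exact uniMat_isUni4 _, blC_blk _ _ _ _⟩

/-- The parametrisation. -/
noncomputable def param (p : T6 × T6) : U8 := (exists_factors p).choose

theorem val_param (p : T6 × T6) : val8 (param p : O8) = aMat p.1 * nMat p.2 := (exists_factors p).choose_spec

theorem uniMat_injective : Function.Injective uniMat := by
  intro a b h
  have e := fun i k => congrFun (congrFun h i) k
  ext j
  fin_cases j
  exacts [e 0 1, e 0 2, e 0 3, e 1 2, e 1 3, e 2 3]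

theorem skewMat_injective : Function.Injective skewMat := by
  intro a b h
  have e := fun i k => congrFun (congrFun h i) k
  ext j
  fin_cases j
  exacts [e 0 1, e 0 2, e 0 3, e 1 2, e 1 3, e 2 3]

theorem param_injective : Function.Injective param := by
  rintro ⟨a, s⟩ ⟨a', s'⟩ h
  have h' := congrArg (fun u : U8 => val8 (u : O8)) h
  simp only [val_param, aMat_mul_nMat] at h'
  obtain ⟨hA, hB, -, -⟩ := blk_inj h'
  obtain rfl := uniMat_injective hA
  have hu : (uniDual a)ᵀ * uniMat a = 1 := by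
    rw [← transpose_one, ← uni_inv a, transpose_mul, transpose_transpose]
  have := congrArg ((uniDual a)ᵀ * ·) hB
  simp only [← mul_assoc, hu, one_mul] at this
  rw [skewMat_injective this]

theorem param_surjective : Function.Surjective param := by
  intro u
  have hu : IsUni8 (val8 (u : O8)) := mem_U8.1 u.2
  obtain ⟨hA, hC⟩ := hu
  set M := val8 (u : O8) with hM
  have hg : (blk (blA M) (blB M) 0 (blD M))ᵀ * G8 * blk (blA M) (blB M) 0 (blD M) = G8 := by
    rw [← hC, blk_eta]; exact val8_mem _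
  rw [gram_blk_iff] at hg
  set a : T6 := ![blA M 0 1, blA M 0 2, blA M 0 3, blA M 1 2, blA M 1 3, blA M 2 3] with ha
  have hAa : blA M = uniMat a := hA.eq
  have hD : blD M = uniDual a := by
    have h1 := hg.1
    rw [hAa] at h1
    exact left_inv_eq_right_inv (mul_eq_one_comm.1 (uni_inv a)) h1 |>.symm
  -- the alternating part
  set T : M4 := (uniDual a)ᵀ * blB M with hT
  have hskew : T + Tᵀ = 0 := by
    rw [hT, transpose_mul, transpose_transpose, add_comm, ← hD]
    exact hg.2
  set s : T6 := ![T 0 1, T 0 2, T 0 3, T 1 2, T 1 3, T 2 3] with hs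
  have hTs : T = skewMat s := by
    have e := fun i k => congrFun (congrFun hskew i) k
    ext i k
    have h2 : ∀ x : ZMod 3, x + x = 0 → x = 0 := by decide
    fin_cases i <;> fin_cases k <;>
      first
        | rfl
        | exact h2 _ (e _ _)
        | exact eq_neg_of_add_eq_zero_left (e _ _)
  refine ⟨(a, s), Subtype.ext (val8_injective ?_)⟩
  have hu' : uniMat a * (uniDual a)ᵀ = 1 := by
    refine mul_eq_one_comm.1 ?_
    rw [← transpose_one, ← uni_inv a, transpose_mul, transpose_transpose]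
  rw [val_param, aMat_mul_nMat, ← hTs, hT, ← mul_assoc, hu', one_mul, ← hAa, ← hD, ← hC, blk_eta]

theorem card_U8 : Nat.card U8 = 3 ^ 12 := by
  rw [← Nat.card_eq_of_bijective param ⟨param_injective, param_surjective⟩, Nat.card_prod]
  simp

/-- Every element of order three is conjugate into the Sylow subgroup. -/
theorem exists_conj_mem_U8 {x : O8} (hx : x ^ 3 = 1) : ∃ g : O8, g * x * g⁻¹ ∈ U8 := by
  have hU : IsPGroup 3 (Subgroup.zpowers x) := by
    rintro ⟨y, hy⟩
    obtain ⟨n, rfl⟩ := hy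
    exact ⟨1, Subtype.ext (by
      simp only [Subgroup.coe_pow, Subgroup.coe_one, pow_one]
      rw [← zpow_natCast, ← _root_.zpow_mul, mul_comm n, _root_.zpow_mul, zpow_natCast, hx, _root_.one_zpow])⟩
  obtain ⟨P, hP⟩ := hU.exists_le_sylow
  have hf : (Nat.card O8).factorization 3 = 12 := by
    rw [card_O8, show 2 * 3 ^ 12 * (80 * (8 * 80 * 728)) = 3 ^ 12 * (2 * (80 * (8 * 80 * 728))) by norm_num,
      Nat.factorization_mul (by norm_num) (by norm_num), Nat.prime_three.factorization_pow]
    simp [Nat.factorization_eq_zero_of_not_dvd]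
  let S : Sylow 3 O8 := Sylow.ofCard U8 (by rw [card_U8, hf])
  obtain ⟨g, hg⟩ := MulAction.exists_smul_eq O8 P S
  refine ⟨g, ?_⟩
  have hxP : x ∈ (P : Subgroup O8) := hP (Subgroup.mem_zpowers x)
  have hmem : g * x * g⁻¹ ∈ ((g • P : Sylow 3 O8) : Subgroup O8) := by
    rw [Sylow.coe_subgroup_smul]
    simpa using Subgroup.smul_mem_pointwise_smul x (MulAut.conj g) (P : Subgroup O8) hxP
  rw [hg] at hmem
  exact hmem

end CfsgLib.SmallGroups.Omega8Three
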